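import Cfsg.Agent.Lib.ChevClassical.Reduce

/-!
The standard plus-type and odd-dimensional forms as forms with a basis of hyperbolic pairs.
-/

set_option autoImplicit false

namespace CfsgLib.ChevClassical

variable (F : Type*) [Field F]

/-- The plus-type form. -/
def plusForm (m : ℕ) : HypForm (Fin m ⊕ Fin m) F where
  bar := Sum.swap
  bar_bar := Sum.swap_swap
  Q := Cfsg.quadFormPlus m F
  Q_zero := by simp [Cfsg.quadFormPlus]
  hQ i v a _ := by
    rcases i with j | j
    · simp [Cfsg.quadFormPlus, Pi.single_apply, add_mul, ite_mul, Finset.sum_add_distrib]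
    · simp [Cfsg.quadFormPlus, Pi.single_apply, mul_add, mul_ite, Finset.sum_add_distrib, mul_comm a]
  hQ₀ i v a h := by rcases i with j | j <;> simp at h
  fix_unique i j h _ := by rcases i with k | k <;> simp at h

/-- The odd-dimensional form. -/
def oddForm (m : ℕ) : HypForm (Unit ⊕ (Fin m ⊕ Fin m)) F where
  bar := Sum.map id Sum.swap
  bar_bar i := by rcases i with _ | j | j <;> rfl
  Q := Cfsg.quadFormOdd m F
  Q_zero := by simp [Cfsg.quadFormOdd]
  hQ i v a h := by
    rcases i with u | j | j
    · exact absurd rfl h
    · simp [Cfsg.quadFormOdd, Pi.single_apply, add_mul, ite_mul, Finset.sum_add_distrib]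
      ring
    · simp [Cfsg.quadFormOdd, Pi.single_apply, mul_add, mul_ite, Finset.sum_add_distrib, mul_comm a]
      ring
  hQ₀ i v a h := by
    rcases i with u | j | j
    · simp [Cfsg.quadFormOdd]
      ring
    · simp at h
    · simp at h
  fix_unique i j h h' := by
    rcases i with u | k | k
    · rcases j with u' | k | k
      · rfl
      · simp at h'
      · simp at h'
    · simp at h
    · simp at h

end CfsgLib.ChevClassical
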