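import Cfsg.Agent.Lib.ChevClassical.Final
import Cfsg.Agent.Lib.ChevClassical.Forms

/-!
The root elements of type B2 in the orthogonal group of the five-dimensional form.
-/

set_option autoImplicit false

namespace CfsgLib.ChevClassical.B2

open Cfsg.Lie

/-- The index of the coordinates. -/
abbrev Idx5 : Type := Unit ⊕ (Fin 2 ⊕ Fin 2)

/-- The pairing. -/
abbrev bar5 : Idx5 → Idx5 := Sum.map id Sum.swap

/-- The labels. -/
def ops : List (RootOp Idx5) := [
  .long (.inr (.inr 0)) (.inr (.inl 1)) (-1),
  .short (.inl ()) (.inr (.inr 0)) (-1),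
  .short (.inl ()) (.inr (.inr 1)) (-1),
  .long (.inr (.inr 0)) (.inr (.inr 1)) (-1),
  .long (.inr (.inl 0)) (.inr (.inl 1)) (1),
  .short (.inl ()) (.inr (.inl 1)) (1),
  .short (.inl ()) (.inr (.inl 0)) (1),
  .long (.inr (.inl 0)) (.inr (.inr 1)) (1)]

/-- The label of a root. -/
def op (r : ℕ) : RootOp Idx5 := ops.getD r (.long (.inr (.inl 0)) (.inr (.inl 1)) 1)

/-- The basis vectors. -/
def basis : List Idx5 :=
  [.inl (), .inr (.inl 0), .inr (.inl 1), .inr (.inr 0), .inr (.inr 1)]

theorem ok_check : okCheck chevB2 bar5 op = true := by decide +kernel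

theorem rel_check : relCheck chevB2 basis bar5 op = true := by decide +kernel

theorem tor_check : torusCheck chevB2 basis bar5 op = true := by decide +kernel

theorem cover_check : coverCheck chevB2 basis bar5 op = true := by decide +kernel

theorem torus_perfect_check : torusPerfectCheck chevB2 1 = true := by decide +kernel

/-- The word giving the diagonal element of the last pair. -/
def diagWord : List (ℕ × Mon) := hMon chevB2 5 (1, 1, 0)

theorem diag_check : (diagWord.all fun x => decide (x.1 < chevB2.nroots)) = true ∧
    basis.all (fun a => sameVec (applyWord bar5 op diagWord [(a, (1, 0, 0))])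
      [(a, (1, if a = .inr (.inl 1) then 2 else if a = bar5 (.inr (.inl 1)) then -2 else 0, 0))]) =
        true := by
  decide +kernel

/-- The labelling. -/
noncomputable def labelling (F : Type*) [Field F] : Labelling chevB2 (oddForm F 2) where
  basis := basis
  op := op
  mem_basis a := by
    rcases a with u | i | i
    · simp [basis]
    · fin_cases i <;> simp [basis]
    · fin_cases i <;> simp [basis]
  ok := ok_check
  rel := rel_check
  tor := tor_check
  cover := cover_check

theorem exists_equiv (F : Type*) [Field F] (hF : ∃ a : F, a ≠ 0 ∧ a ≠ 1) :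
    Nonempty (↥(chevB2.group F) ≃* Cfsg.POmega F (Cfsg.quadFormOdd 2 F)) := by
  refine (labelling F).exists_equiv (by simp)
    (perfect_of_torus (by simp) ⟨1, by decide⟩ torus_perfect_check hF)
    (a := .inr (.inl 0)) (b := .inr (.inl 1)) ⟨?_, ?_, ?_, ?_⟩ (.inr (.inl 1)) ?_ diagWord ?_
  · simp [oddForm]
  · simp [oddForm]
  · simp
  · simp [oddForm]
  · simp [oddForm]
  · exact Bool.and_eq_true_iff.2 ⟨diag_check.1, diag_check.2⟩

end CfsgLib.ChevClassical.B2
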