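import Cfsg.Agent.Lib.ChevClassical.Hom
import Cfsg.Agent.Lib.Steinberg.Present
import Cfsg.Agent.Lib.Steinberg.Torus
import Cfsg.Agent.Lib.Chev.Simple
import Cfsg.Agent.S1077

/-!
The central quotient of the commutator subgroup of an orthogonal group as a Chevalley group, given a
labelling of the roots; perfect presented groups.
-/

set_option autoImplicit false
set_option linter.unusedSectionVars false

namespace CfsgLib.ChevClassical

open Cfsg.Lie Matrix

/-! ### Perfect presented groups -/

section Perfect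

variable {D : ChevalleyDatum} {F : Type*} [Field F]

theorem commutator_eq_top_of_gens
    (h : ∀ v, v < D.nroots → ∀ t : F, Abelianization.of (D.stGen F v t) = 1) :
    commutator (D.SteinbergGroup F) = ⊤ := by
  rw [eq_top_iff, ← PresentedGroup.closure_range_of, Subgroup.closure_le]
  rintro g ⟨⟨r, t⟩, rfl⟩
  have hr := h r.val r.2 t
  rw [← MonoidHom.mem_ker, Abelianization.ker_of] at hr
  rw [ChevalleyDatum.stGen, ChevalleyDatum.stX, dif_pos r.2] at hr
  exact hr

/-- A pair of roots whose commutator is one root element. -/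
def singleCheck (D : ChevalleyDatum) : Bool :=
  (List.range D.nroots).all fun v => (List.range D.nroots).any fun r => (List.range D.nroots).any
    fun s => decide (s ≠ r ∧ s ≠ D.neg r ∧
      (D.commTerms r s = [(v, 1, 1, 1)] ∨ D.commTerms r s = [(v, -1, 1, 1)]))

theorem perfect_of_single (hD : D ∈ [chevG2, chevB2, chevD4, chevF4, chevE6, chevE7, chevE8])
    (h : singleCheck D = true) : commutator (D.SteinbergGroup F) = ⊤ := by
  obtain ⟨T, S⟩ := CfsgLib.Steinberg.exists_setup hD
  have Sy := CfsgLib.Steinberg.groupSys F S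
  refine commutator_eq_top_of_gens fun v hv t => ?_
  simp only [singleCheck, List.all_eq_true, List.any_eq_true, List.mem_range, decide_eq_true_eq] at h
  obtain ⟨r, hr, s, hs, h1, h2, hterm⟩ := h v hv
  have key : ∀ a : F, Abelianization.of
      (CfsgLib.Steinberg.wordE (D.stGen F) (D.commWord F r s a 1)) = 1 := fun a => by
    have e := congrArg Abelianization.of (Sy.rel r s a 1 hr hs h1 h2)
    simp only [map_mul] at e
    rwa [mul_comm (Abelianization.of (D.stGen F s 1)), eq_comm, mul_eq_left] at e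
  rcases hterm with hterm | hterm
  · simpa [CfsgLib.Steinberg.wordE, ChevalleyDatum.commWord, hterm] using key (-t)
  · simpa [CfsgLib.Steinberg.wordE, ChevalleyDatum.commWord, hterm] using key t

/-- Roots moved by the torus of a fundamental root, and the others as second terms of commutators
with moved first term. -/
def torusPerfectCheck (D : ChevalleyDatum) (i : ℕ) : Bool :=
  (List.range D.nroots).all fun v =>
    decide (D.cartan i v = 1 ∨ D.cartan i v = -1) ||
    (List.range D.nroots).any fun r => (List.range D.nroots).any fun s =>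
      decide (s ≠ r ∧ s ≠ D.neg r) &&
      match D.commTerms r s with
      | [(k, _, 1, 1), (v', c, 2, 1)] =>
        decide (v' = v ∧ k < D.nroots ∧ (D.cartan i k = 1 ∨ D.cartan i k = -1) ∧ (c = 1 ∨ c = -1))
      | _ => false

theorem perfect_of_torus (hD : D ∈ [chevG2, chevB2, chevD4, chevF4, chevE6, chevE7, chevE8])
    (i : Fin D.rank) (h : torusPerfectCheck D i = true) (hF : ∃ a : F, a ≠ 0 ∧ a ≠ 1) :
    commutator (D.SteinbergGroup F) = ⊤ := by
  obtain ⟨T, S⟩ := CfsgLib.Steinberg.exists_setup hD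
  have Sy := CfsgLib.Steinberg.groupSys F S
  obtain ⟨a, ha0, ha1⟩ := hF
  have hmoved : ∀ v, v < D.nroots → (D.cartan i v = 1 ∨ D.cartan i v = -1) →
      ∀ t : F, Abelianization.of (D.stGen F v t) = 1 := by
    intro v hv hc t
    set b : Fˣ := CfsgLib.Chev.chi (CfsgLib.Chev.corChar D T (D.simple i) (Units.mk0 a ha0))
      (CfsgLib.Chev.rv D T v) with hb
    have hb1 : (b : F) - 1 ≠ 0 := by
      rw [sub_ne_zero, hb, CfsgLib.Chev.chi_corChar_simple Sy.checked i hv]
      rcases hc with hc | hc <;> simp [hc, ha1]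
    have hconj := Sy.conj_hE (CfsgLib.Chev.simple_lt Sy.checked i.2) (Units.mk0 a ha0) v
      (t / ((b : F) - 1)) hv
    have e := congrArg Abelianization.of hconj
    simp only [map_mul, map_inv, mul_inv_cancel_comm] at e
    rw [show (b : F) * (t / ((b : F) - 1)) = t + t / ((b : F) - 1) by field_simp; ring,
      Sy.add v _ _ hv, map_mul, right_eq_mul] at e
    exact e
  refine commutator_eq_top_of_gens fun v hv t => ?_
  simp only [torusPerfectCheck, List.all_eq_true, List.any_eq_true, List.mem_range, Bool.or_eq_true,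
    Bool.and_eq_true, decide_eq_true_eq] at h
  rcases h v hv with hc | ⟨r, hr, s, hs, ⟨h1, h2⟩, hterm⟩
  · exact hmoved v hv hc t
  split at hterm
  next k c' v' c hcomm =>
    simp only [decide_eq_true_eq] at hterm
    obtain ⟨rfl, hk, hkc, hc⟩ := hterm
    have key : ∀ x : F, Abelianization.of
        (CfsgLib.Steinberg.wordE (D.stGen F) (D.commWord F r s 1 x)) = 1 := fun x => by
      have e := congrArg Abelianization.of (Sy.rel r s 1 x hr hs h1 h2)
      simp only [map_mul] at e
      rwa [mul_comm (Abelianization.of (D.stGen F s x)), eq_comm, mul_eq_left] at e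
    rcases hc with rfl | rfl
    · simpa [CfsgLib.Steinberg.wordE, ChevalleyDatum.commWord, hcomm, hmoved k hk hkc] using key t
    · simpa [CfsgLib.Steinberg.wordE, ChevalleyDatum.commWord, hcomm, hmoved k hk hkc] using key (-t)
  next => exact absurd hterm (by simp)

end Perfect

/-! ### The isomorphism -/

variable {ι : Type} [Fintype ι] [DecidableEq ι] {F : Type*} [Field F] {H : HypForm ι F}

namespace HypForm

theorem ne_commute {a b : ι} (h : H.LOK a b) : ∃ x ∈ H.elemGroup, ∃ y ∈ H.elemGroup, x * y ≠ y * x := by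
  have h' : H.LOK b a := ⟨h.2.1, h.1, Ne.symm h.2.2.1, fun e => h.2.2.2 (by rw [e, H.bar_bar])⟩
  refine ⟨opL h 1, opL_mem h _, opL h' 1, opL_mem h' _, fun e => ?_⟩
  have e2 := congrArg (fun g : GL ι F => ((g : Matrix ι ι F) *ᵥ Pi.single a 1) a) e
  simp only [mulVec_glMul, opL_mulVec, lMap_apply] at e2
  simp [h.2.2.1, Ne.symm h.2.2.1, h.1, h.2.2.2, Ne.symm h.2.2.2, Pi.single_apply] at e2

theorem Q_pair {a : ι} (ha : H.bar a ≠ a) (v : ι → F) (x y : F)
    (h : x * v (H.bar a) + y * (v a + x) = 0) :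
    H.Q (v + Pi.single a x + Pi.single (H.bar a) y) = H.Q v := by
  rw [H.hQ _ _ _ (bar_ne ha), H.hQ _ _ _ ha, H.bar_bar, Pi.add_apply, Pi.single_eq_same]
  linear_combination h

theorem pairSwap {a : ι} (ha : H.bar a ≠ a) : PairSwap H a := by
  refine ⟨ha, H.mem_orth.2 fun v => ?_⟩
  rw [permGL_mulVec]
  have e : v ∘ ⇑(Equiv.swap a (H.bar a)) =
      v + Pi.single a (v (H.bar a) - v a) + Pi.single (H.bar a) (v a - v (H.bar a)) := by
    funext i
    by_cases e1 : i = a
    · subst e1; simp [Pi.single_eq_of_ne ha.symm]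
    by_cases e2 : i = H.bar a
    · subst e2; simp [Pi.single_eq_of_ne ha]
    simp [Equiv.swap_apply_of_ne_of_ne e1 e2, Pi.single_eq_of_ne e1, Pi.single_eq_of_ne e2]
  rw [e]
  exact Q_pair ha v _ _ (by ring)

end HypForm

namespace Labelling

variable {D : ChevalleyDatum} (L : Labelling D H)

/-- The check that a word gives the diagonal element with the square of the variable at the pair of
`k₀`. -/
def diagCheck (k₀ : ι) (w : List (ℕ × Mon)) : Bool :=
  (w.all fun x => decide (x.1 < D.nroots)) &&
  L.basis.all fun a => sameVec (applyWord H.bar L.op w [(a, (1, 0, 0))])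
    [(a, (1, if a = k₀ then 2 else if a = H.bar k₀ then -2 else 0, 0))]

theorem exists_diag (k₀ : ι) (w : List (ℕ × Mon)) (h : L.diagCheck k₀ w = true) (u : F) (hu : u ≠ 0) :
    ∃ e ∈ H.elemGroup, ∀ v, (e : Matrix ι ι F) *ᵥ v =
      fun i => (if i = k₀ then u ^ 2 else if i = H.bar k₀ then (u ^ 2)⁻¹ else 1) * v i := by
  simp only [diagCheck, Bool.and_eq_true, List.all_eq_true, decide_eq_true_eq] at h
  refine ⟨_, wordEl_mem H L.op u 1 w, ?_⟩
  refine HypForm.diag_apply fun a => ?_
  have h1 := sameVec_sound (h.2 a (L.mem_basis a)) u (1 : F)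
  rw [← wordEl_mulVec H L.op hu one_ne_zero w (fun x hx => (L.ok_op (h.1 x hx)).1)] at h1
  have h2 : vecVal u (1 : F) ([(a, (1, 0, 0))] : SVec ι) = Pi.single a 1 := by simp [vecVal, monVal]
  rw [h2] at h1
  rw [h1]
  simp only [vecVal, monVal, List.map_cons, List.map_nil, List.sum_cons, List.sum_nil, add_zero,
    Int.cast_one, one_mul, zpow_zero, mul_one]
  congr 1
  split_ifs with e1 e2
  · norm_cast
  · rw [_root_.zpow_neg]; norm_cast
  · exact zpow_zero u

theorem exists_equiv (hD : D ∈ [chevG2, chevB2, chevD4, chevF4, chevE6, chevE7, chevE8])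
    (hperf : commutator (D.SteinbergGroup F) = ⊤) {a b : ι} (hab : H.LOK a b) (k₀ : ι)
    (hk : H.bar k₀ ≠ k₀) (w : List (ℕ × Mon)) (hw : L.diagCheck k₀ w = true) :
    Nonempty (↥(D.group F) ≃* (↥(commutator ↥H.orth) ⧸ Subgroup.center ↥(commutator ↥H.orth))) := by
  obtain ⟨θ, hθ, hker, -⟩ := Cfsg.Agent.S1077.result (K := F) D hD
  have hgperf : commutator ↥(D.group F) = ⊤ := by
    have h1 := congrArg (Subgroup.map θ) hperf
    rw [commutator_def, Subgroup.map_commutator, Subgroup.map_top_of_surjective θ hθ] at h1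
    exact h1
  obtain ⟨hsimp, -⟩ := CfsgLib.Chev.isSimple_group_of_perfect hD hgperf
  have hcomm : commutator ↥H.orth = L.hom.range := by
    refine le_antisymm ?_ ?_
    · rw [L.range_hom]
      exact HypForm.commutator_orth_le (HypForm.pairSwap hk)
        (fun u hu => L.exists_diag k₀ w hw u hu)
    · rw [MonoidHom.range_eq_map, ← hperf, commutator_def, Subgroup.map_commutator, commutator_def]
      exact Subgroup.commutator_mono le_top le_top
  set φ : D.SteinbergGroup F →* ↥(commutator ↥H.orth) :=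
    L.hom.codRestrict _ (fun x => hcomm ▸ ⟨x, rfl⟩) with hφd
  have hφ : Function.Surjective φ := by
    rintro ⟨y, hy⟩
    obtain ⟨x, hx⟩ : y ∈ L.hom.range := hcomm ▸ hy
    exact ⟨x, Subtype.ext hx⟩
  set ψ := (QuotientGroup.mk' (Subgroup.center ↥(commutator ↥H.orth))).comp φ with hψd
  have hψ : Function.Surjective ψ := (QuotientGroup.mk'_surjective _).comp hφ
  have hmemψ : ∀ x, x ∈ ψ.ker ↔ φ x ∈ Subgroup.center ↥(commutator ↥H.orth) := fun x => by
    rw [MonoidHom.mem_ker, hψd, MonoidHom.comp_apply, QuotientGroup.mk'_apply, QuotientGroup.eq_one_iff]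
  have h1 : θ.ker ≤ ψ.ker := fun x hx => by
    rw [hker] at hx
    rw [hmemψ, Subgroup.mem_center_iff]
    intro y
    obtain ⟨z, rfl⟩ := hφ y
    rw [← map_mul, ← map_mul, Subgroup.mem_center_iff.1 hx z]
  have h2 : ψ.ker ≠ ⊤ := by
    intro htop
    obtain ⟨x, hx, y, hy, hxy⟩ := HypForm.ne_commute hab
    apply hxy
    have hmem : ∀ g, g ∈ H.elemGroup → ∃ z, (L.hom z : GL ι F) = g := fun g hg => by
      have : (⟨g, HypForm.elemGroup_le_orth hg⟩ : ↥H.orth) ∈ L.hom.range := by
        rw [L.range_hom]; exact hg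
      obtain ⟨z, hz⟩ := this
      exact ⟨z, congrArg Subtype.val hz⟩
    obtain ⟨a', rfl⟩ := hmem x hx
    obtain ⟨b', rfl⟩ := hmem y hy
    have := Subgroup.mem_center_iff.1 ((hmemψ a').1 (htop ▸ Subgroup.mem_top a')) (φ b')
    exact (congrArg (fun z : ↥(commutator ↥H.orth) => ((z : ↥H.orth) : GL ι F)) this).symm
  haveI : (ψ.ker.map θ).Normal := Subgroup.Normal.map inferInstance θ hθ
  have h3 : ψ.ker = θ.ker := by
    refine le_antisymm ?_ h1
    rcases hsimp.eq_bot_or_eq_top_of_normal (ψ.ker.map θ) inferInstance with h | h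
    · exact (Subgroup.map_eq_bot_iff _).1 h
    · exfalso
      apply h2
      rw [eq_top_iff]
      intro g _
      obtain ⟨x, hx, hxg⟩ := Subgroup.mem_map.1 (h ▸ Subgroup.mem_top (θ g))
      have h4 : x⁻¹ * g ∈ ψ.ker := h1 (by rw [MonoidHom.mem_ker, map_mul, map_inv, hxg, inv_mul_cancel])
      have := mul_mem hx h4
      rwa [mul_inv_cancel_left] at this
  exact ⟨(QuotientGroup.quotientKerEquivOfSurjective θ hθ).symm.trans
    ((QuotientGroup.quotientMulEquivOfEq h3.symm).trans
      (QuotientGroup.quotientKerEquivOfSurjective ψ hψ))⟩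

end Labelling

end CfsgLib.ChevClassical
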