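import Cfsg.Agent.Lib.ChevClassical.Word
import Cfsg.Prelude.Def_Steinberg

/-!
The homomorphism from a presented group of Steinberg type onto the commutator subgroup of an
orthogonal group, given by labels of root elements passing computable checks.
-/

set_option autoImplicit false
set_option linter.unusedSectionVars false

namespace CfsgLib.ChevClassical

open Cfsg.Lie Matrix

/-- The word of the commutator formula with monomial parameters. -/
def commMon (D : ChevalleyDatum) (r s : ℕ) : List (ℕ × Mon) :=
  (D.commTerms r s).map fun c =>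
    (c.1, (c.2.1 * (-1) ^ c.2.2.1, (c.2.2.1 : ℤ), (c.2.2.2 : ℤ)))

/-- The word of `n_r` with a parameter `± t^i u^j`. -/
def nMon (D : ChevalleyDatum) (r : ℕ) (p : Mon) : List (ℕ × Mon) :=
  [(r, p), (D.neg r, (-p.1, -p.2.1, -p.2.2)), (r, p)]

/-- The word of `h_r` with a parameter `± t^i u^j`. -/
def hMon (D : ChevalleyDatum) (r : ℕ) (p : Mon) : List (ℕ × Mon) :=
  nMon D r p ++ nMon D r (-1, 0, 0)

variable {ι : Type} [Fintype ι] [DecidableEq ι]

/-- Every root has a valid label and the negatives are in range. -/
def okCheck (D : ChevalleyDatum) (bar : ι → ι) (op : ℕ → RootOp ι) : Bool :=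
  (List.range D.nroots).all fun r => (op r).ok bar && decide (D.neg r < D.nroots)

/-- The commutator relations hold. -/
def relCheck (D : ChevalleyDatum) (basis : List ι) (bar : ι → ι) (op : ℕ → RootOp ι) : Bool :=
  (List.range D.nroots).all fun r => (List.range D.nroots).all fun s =>
    decide (s = r) || decide (s = D.neg r) ||
      (((D.commTerms r s).all fun c =>
          decide (c.1 < D.nroots ∧ 0 < c.2.2.1 ∧ 0 < c.2.2.2)) &&
        sameWord basis bar op [(s, (-1, 0, 1)), (r, (-1, 1, 0)), (s, (1, 0, 1)), (r, (1, 1, 0))]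
          (commMon D r s))

/-- The torus relations hold. -/
def torusCheck (D : ChevalleyDatum) (basis : List ι) (bar : ι → ι) (op : ℕ → RootOp ι) : Bool :=
  (List.range D.nroots).all fun r =>
    sameWord basis bar op (hMon D r (1, 1, 0) ++ hMon D r (1, 0, 1)) (hMon D r (1, 1, 1))

/-- Every root element is one of the labelled ones up to sign. -/
def coverCheck (D : ChevalleyDatum) (basis : List ι) (bar : ι → ι) (op : ℕ → RootOp ι) : Bool :=
  basis.all fun a => basis.all fun b =>
    ((RootOp.long a b 1).ok bar == false ||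
      (List.range D.nroots).any fun r => decide (op r = .long a b 1 ∨ op r = .long a b (-1) ∨
        op r = .long (bar b) (bar a) 1 ∨ op r = .long (bar b) (bar a) (-1))) &&
    ((RootOp.short a b 1).ok bar == false ||
      (List.range D.nroots).any fun r => decide (op r = .short a b 1 ∨ op r = .short a b (-1)))

variable {F : Type*} [Field F]

/-- A labelling of the roots of a datum passing the checks. -/
structure Labelling (D : ChevalleyDatum) (H : HypForm ι F) where
  basis : List ι
  op : ℕ → RootOp ι
  mem_basis : ∀ a, a ∈ basis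
  ok : okCheck D H.bar op = true
  rel : relCheck D basis H.bar op = true
  tor : torusCheck D basis H.bar op = true
  cover : coverCheck D basis H.bar op = true

namespace Labelling

variable {D : ChevalleyDatum} {H : HypForm ι F} (L : Labelling D H)

/-- The root element of a root. -/
noncomputable def el (r : ℕ) (t : F) : GL ι F := (L.op r).elt H t

theorem ok_op {r : ℕ} (hr : r < D.nroots) :
    (L.op r).ok H.bar = true ∧ D.neg r < D.nroots := by
  have h := L.ok
  simp only [okCheck, List.all_eq_true, List.mem_range, Bool.and_eq_true, decide_eq_true_eq] at h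
  exact h r hr

theorem el_zero (r : ℕ) : L.el r 0 = 1 := RootOp.elt_zero _

theorem el_inv (r : ℕ) (t : F) : (L.el r t)⁻¹ = L.el r (-t) := RootOp.elt_inv _ _

theorem wordEl_commMon (r s : ℕ) (t u : F) :
    wordEl H L.op t u (commMon D r s) = ((D.commWord F r s t u).map fun p => L.el p.1 p.2).prod := by
  simp only [wordEl, commMon, ChevalleyDatum.commWord, List.map_map]
  congr 1
  refine List.map_congr_left fun c _ => ?_
  simp only [Function.comp_apply, el, monVal, zpow_natCast, Int.cast_mul, Int.cast_pow, Int.cast_neg,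
    Int.cast_one]
  congr 1
  rw [neg_pow t]
  ring

theorem el_rel {r s : ℕ} (hr : r < D.nroots) (hs : s < D.nroots) (h1 : s ≠ r) (h2 : s ≠ D.neg r)
    (t u : F) : (L.el s u)⁻¹ * (L.el r t)⁻¹ * L.el s u * L.el r t =
      ((D.commWord F r s t u).map fun p => L.el p.1 p.2).prod := by
  have h := L.rel
  simp only [relCheck, List.all_eq_true, List.mem_range, Bool.or_eq_true, decide_eq_true_eq,
    Bool.and_eq_true] at h
  obtain ⟨hterm, hsame⟩ := (h r hr s hs).resolve_left (fun e => e.elim h1 h2)
  have hone : ∀ (hz : t = 0 ∨ u = 0),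
      ((D.commWord F r s t u).map fun p => L.el p.1 p.2).prod = 1 := fun hz =>
    List.prod_eq_one fun x hx => by
      obtain ⟨p, hp, rfl⟩ := List.mem_map.1 hx
      obtain ⟨c, hc, rfl⟩ := List.mem_map.1 hp
      obtain ⟨-, hi, hj⟩ := hterm c hc
      rcases hz with rfl | rfl
      · simp [zero_pow (by omega : c.2.2.1 ≠ 0), el_zero]
      · simp [zero_pow (by omega : c.2.2.2 ≠ 0), el_zero]
  by_cases ht : t = 0
  · rw [hone (Or.inl ht), ht]; simp [el_zero]
  by_cases hu : u = 0
  · rw [hone (Or.inr hu), hu]; simp [el_zero]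
  have hw := wordEl_eq H L.op L.mem_basis ht hu
    (w := [(s, (-1, 0, 1)), (r, (-1, 1, 0)), (s, (1, 0, 1)), (r, (1, 1, 0))]) (w' := commMon D r s)
    (by
      simp only [List.mem_cons, List.not_mem_nil, or_false]
      rintro x (rfl | rfl | rfl | rfl) <;> first | exact (L.ok_op hs).1 | exact (L.ok_op hr).1)
    (by
      intro x hx
      obtain ⟨c, hc, rfl⟩ := List.mem_map.1 hx
      exact (L.ok_op (hterm c hc).1).1)
    hsame
  rw [← L.wordEl_commMon, ← hw]
  simp [wordEl, monVal, el, RootOp.elt_inv, mul_assoc]

theorem wordEl_append (t u : F) (w w' : List (ℕ × Mon)) :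
    wordEl H L.op t u (w ++ w') = wordEl H L.op t u w * wordEl H L.op t u w' := by
  simp [wordEl]

theorem wordEl_hMon (r : ℕ) (p : Mon) (hp : p.1 = 1) (t u : F) :
    wordEl H L.op t u (hMon D r p) =
      ((D.hWord r (monVal t u p)).map fun q => L.el q.1 q.2).prod := by
  have e1 : monVal t u (-p.1, -p.2.1, -p.2.2) = -(monVal t u p)⁻¹ := by
    simp [monVal, hp, _root_.zpow_neg, mul_comm]
  have e2 : monVal t u ((-1, 0, 0) : Mon) = -1 := by simp [monVal]
  simp only [wordEl, hMon, nMon, ChevalleyDatum.hWord, ChevalleyDatum.nWord, List.map_append,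
    List.map_cons, List.map_nil, el]
  rw [e1]
  simp [monVal, mul_comm]

theorem el_torus {r : ℕ} (hr : r < D.nroots) {t u : F} (ht : t ≠ 0) (hu : u ≠ 0) :
    ((D.hWord r t).map fun q => L.el q.1 q.2).prod * ((D.hWord r u).map fun q => L.el q.1 q.2).prod =
      ((D.hWord r (t * u)).map fun q => L.el q.1 q.2).prod := by
  have h := L.tor
  simp only [torusCheck, List.all_eq_true, List.mem_range] at h
  have hokw : ∀ p : Mon, ∀ x ∈ hMon D r p, (L.op x.1).ok H.bar = true := by
    intro p x hx
    simp only [hMon, nMon, List.mem_append, List.mem_cons, List.not_mem_nil, or_false] at hx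
    rcases hx with (rfl | rfl | rfl) | (rfl | rfl | rfl) <;>
      first | exact (L.ok_op hr).1 | exact (L.ok_op (L.ok_op hr).2).1
  have hw := wordEl_eq H L.op L.mem_basis ht hu
    (w := hMon D r (1, 1, 0) ++ hMon D r (1, 0, 1)) (w' := hMon D r (1, 1, 1))
    (fun x hx => by rcases List.mem_append.1 hx with hx | hx <;> exact hokw _ x hx)
    (hokw _) (h r hr)
  rw [L.wordEl_append, L.wordEl_hMon r _ rfl, L.wordEl_hMon r _ rfl, L.wordEl_hMon r _ rfl] at hw
  simpa [monVal] using hw

/-- The root element inside the isometry group. -/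
noncomputable def elO (p : Fin D.nroots × F) : ↥H.orth :=
  ⟨L.el p.1 p.2, HypForm.elemGroup_le_orth (RootOp.elt_mem _ _)⟩

theorem lift_stX {r : ℕ} (hr : r < D.nroots) (t : F) :
    ((FreeGroup.lift L.elO (D.stX r t) : ↥H.orth) : GL ι F) = L.el r t := by
  rw [ChevalleyDatum.stX, dif_pos hr, FreeGroup.lift_apply_of]; rfl

theorem lift_stWord {w : List (ℕ × F)} (hw : ∀ p ∈ w, p.1 < D.nroots) :
    ((FreeGroup.lift L.elO (D.stWord w) : ↥H.orth) : GL ι F) =
      (w.map fun p => L.el p.1 p.2).prod := by
  induction w with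
  | nil => simp [ChevalleyDatum.stWord]
  | cons p w ih =>
    rw [show D.stWord (p :: w) = D.stX p.1 p.2 * D.stWord w by simp [ChevalleyDatum.stWord],
      map_mul, Subgroup.coe_mul, L.lift_stX (hw p List.mem_cons_self),
      ih fun q hq => hw q (List.mem_cons_of_mem _ hq), List.map_cons, List.prod_cons]

theorem lift_rels : ∀ g ∈ D.steinbergRels F, FreeGroup.lift L.elO g = 1 := by
  rintro g ((⟨r, t₁, t₂, hr, rfl⟩ | ⟨r, s, t, u, hr, hs, hsr, hneg, rfl⟩) |
    ⟨r, t₁, t₂, hr, h1, h2, rfl⟩) <;> apply Subtype.ext <;>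
    simp only [map_mul, map_inv, Subgroup.coe_mul, InvMemClass.coe_inv, OneMemClass.coe_one]
  · rw [L.lift_stX hr, L.lift_stX hr, L.lift_stX hr, mul_inv_eq_one]
    exact RootOp.elt_add _ _ _
  · rw [L.lift_stX hr, L.lift_stX hs, L.lift_stWord, L.el_rel hr hs hsr hneg, mul_inv_cancel]
    intro p hp
    have h := L.rel
    simp only [relCheck, List.all_eq_true, List.mem_range, Bool.or_eq_true, decide_eq_true_eq,
      Bool.and_eq_true] at h
    obtain ⟨hterm, -⟩ := (h r hr s hs).resolve_left (fun e => e.elim hsr hneg)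
    obtain ⟨c, hc, rfl⟩ := List.mem_map.1 hp
    exact (hterm c hc).1
  · have hw : ∀ t : F, ∀ p ∈ D.hWord r t, p.1 < D.nroots := by
      intro t p hp
      simp only [ChevalleyDatum.hWord, ChevalleyDatum.nWord, List.mem_append, List.mem_cons,
        List.not_mem_nil, or_false] at hp
      rcases hp with (rfl | rfl | rfl) | (rfl | rfl | rfl) <;>
        first | exact hr | exact (L.ok_op hr).2
    simp only [ChevalleyDatum.stH]
    rw [L.lift_stWord (hw _), L.lift_stWord (hw _), L.lift_stWord (hw _),
      L.el_torus hr h1 h2, mul_inv_cancel]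

/-- The homomorphism from the presented group. -/
noncomputable def hom : D.SteinbergGroup F →* ↥H.orth :=
  PresentedGroup.toGroup (f := L.elO) L.lift_rels

theorem hom_stGen {r : ℕ} (hr : r < D.nroots) (t : F) :
    (L.hom (D.stGen F r t) : GL ι F) = L.el r t :=
  L.lift_stX hr t

theorem range_hom : L.hom.range = H.elemGroup.subgroupOf H.orth := by
  apply le_antisymm
  · rw [MonoidHom.range_eq_map, ← PresentedGroup.closure_range_of, MonoidHom.map_closure,
      Subgroup.closure_le]
    rintro _ ⟨_, ⟨p, rfl⟩, rfl⟩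
    rw [SetLike.mem_coe, Subgroup.mem_subgroupOf, hom, PresentedGroup.toGroup.of]
    exact RootOp.elt_mem _ _
  · have key : H.elemGroup ≤ L.hom.range.map H.orth.subtype := by
      have hmem : ∀ r, r < D.nroots → ∀ t, L.el r t ∈ L.hom.range.map H.orth.subtype :=
        fun r hr t => ⟨L.hom (D.stGen F r t), ⟨_, rfl⟩, L.hom_stGen hr t⟩
      refine (Subgroup.closure_le _).2 ?_
      have h := L.cover
      simp only [coverCheck, List.all_eq_true, Bool.and_eq_true, Bool.or_eq_true, beq_iff_eq,
        List.any_eq_true, List.mem_range, decide_eq_true_eq] at h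
      rintro g (⟨a, b, hab, t, rfl⟩ | ⟨z, a, hza, t, rfl⟩)
      · rcases (h a (L.mem_basis a) b (L.mem_basis b)).1 with hf | ⟨r, hr, ho⟩
        · exact absurd hf (by simpa [RootOp.ok, HypForm.LOK] using hab)
        have hab' := HypForm.LOK.symm H hab
        rcases ho with ho | ho | ho | ho
        · have := hmem r hr t
          simpa [el, ho, RootOp.elt, hab] using this
        · have := hmem r hr (-t)
          simpa [el, ho, RootOp.elt, hab] using this
        · have := hmem r hr (-t)
          simpa [el, ho, RootOp.elt, hab', HypForm.opL_symm hab] using this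
        · have := hmem r hr t
          simpa [el, ho, RootOp.elt, hab', HypForm.opL_symm hab] using this
      · rcases (h z (L.mem_basis z) a (L.mem_basis a)).2 with hf | ⟨r, hr, ho⟩
        · exact absurd hf (by simpa [RootOp.ok, HypForm.SOK] using hza)
        rcases ho with ho | ho
        · have := hmem r hr t
          simpa [el, ho, RootOp.elt, hza] using this
        · have := hmem r hr (-t)
          simpa [el, ho, RootOp.elt, hza] using this
    intro x hx
    obtain ⟨y, hy, hyx⟩ := key (Subgroup.mem_subgroupOf.1 hx)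
    rwa [← Subtype.ext hyx]

end Labelling

end CfsgLib.ChevClassical
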