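import Cfsg.Prelude.Def_Classical

/-!
Orthogonal groups of forms with a basis of hyperbolic pairs and at most one further vector:
elementary isometries, and the commutator subgroup as the group they generate.
-/

set_option autoImplicit false
set_option linter.unusedSectionVars false

namespace CfsgLib.ChevClassical

open Matrix

/-- A form on `F^ι` with an involution pairing the basis vectors into hyperbolic pairs, at most one
basis vector being its own partner. -/
structure HypForm (ι : Type) [Fintype ι] [DecidableEq ι] (F : Type*) [Field F] where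
  bar : ι → ι
  bar_bar : ∀ i, bar (bar i) = i
  Q : (ι → F) → F
  Q_zero : Q 0 = 0
  hQ : ∀ i v (a : F), bar i ≠ i → Q (v + Pi.single i a) = Q v + a * v (bar i)
  hQ₀ : ∀ i v (a : F), bar i = i → Q (v + Pi.single i a) = Q v + 2 * a * v i + a ^ 2
  fix_unique : ∀ i j, bar i = i → bar j = j → i = j

variable {ι : Type} [Fintype ι] [DecidableEq ι] {F : Type*} [Field F]

theorem glExt {g h : GL ι F} (H : ∀ v, (g : Matrix ι ι F) *ᵥ v = (h : Matrix ι ι F) *ᵥ v) :
    g = h :=
  Units.ext (Matrix.ext_iff_mulVec.2 H)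

theorem mulVec_glMul (g h : GL ι F) (v : ι → F) :
    ((g * h : GL ι F) : Matrix ι ι F) *ᵥ v = (g : Matrix ι ι F) *ᵥ ((h : Matrix ι ι F) *ᵥ v) := by
  rw [Units.val_mul, ← Matrix.mulVec_mulVec]

theorem mulVec_glOne (v : ι → F) : ((1 : GL ι F) : Matrix ι ι F) *ᵥ v = v := by
  rw [Units.val_one, Matrix.one_mulVec]

namespace HypForm

variable (H : HypForm ι F)

/-- The pair `(a, b)` indexes a long root. -/
def LOK (a b : ι) : Prop := H.bar a ≠ a ∧ H.bar b ≠ b ∧ a ≠ b ∧ a ≠ H.bar b

/-- `a` indexes a short root with fixed vector `z`. -/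
def SOK (z a : ι) : Prop := H.bar z = z ∧ H.bar a ≠ a

theorem bar_inj {a b : ι} (h : H.bar a = H.bar b) : a = b := by
  rw [← H.bar_bar a, h, H.bar_bar]

theorem LOK.symm {a b : ι} (h : H.LOK a b) : H.LOK (H.bar b) (H.bar a) := by
  refine ⟨fun e => h.2.1 (H.bar_inj e), fun e => h.1 (H.bar_inj e),
    fun e => h.2.2.1 (H.bar_inj e).symm, fun e => ?_⟩
  rw [H.bar_bar] at e
  exact h.2.2.2 e.symm

/-- The long root transformation as a linear map. -/
def lMap (a b : ι) (t : F) : (ι → F) →ₗ[F] (ι → F) where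
  toFun v := v + Pi.single a (t * v b) + Pi.single (H.bar b) (-(t * v (H.bar a)))
  map_add' v w := by
    rw [show t * (v + w) b = t * v b + t * w b by simp [mul_add],
      show -(t * (v + w) (H.bar a)) = -(t * v (H.bar a)) + -(t * w (H.bar a)) by simp [mul_add]; ring,
      Pi.single_add, Pi.single_add]
    abel
  map_smul' c v := by
    rw [RingHom.id_apply, show t * (c • v) b = c • (t * v b) by simp [mul_left_comm],
      show -(t * (c • v) (H.bar a)) = c • -(t * v (H.bar a)) by simp [mul_left_comm],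
      Pi.single_smul', Pi.single_smul', smul_add, smul_add]

theorem lMap_apply (a b : ι) (t : F) (v : ι → F) :
    H.lMap a b t v = v + Pi.single a (t * v b) + Pi.single (H.bar b) (-(t * v (H.bar a))) := rfl

/-- The short root transformation as a linear map. -/
def sMap (z a : ι) (t : F) : (ι → F) →ₗ[F] (ι → F) where
  toFun v := v + Pi.single z (t * v (H.bar a)) +
    Pi.single a (-(2 * t * v z) - t ^ 2 * v (H.bar a) : F)
  map_add' v w := by
    rw [show t * (v + w) (H.bar a) = t * v (H.bar a) + t * w (H.bar a) by simp [mul_add],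
      show -(2 * t * (v + w) z) - t ^ 2 * (v + w) (H.bar a) =
        (-(2 * t * v z) - t ^ 2 * v (H.bar a)) + (-(2 * t * w z) - t ^ 2 * w (H.bar a)) by
          simp only [Pi.add_apply]; ring,
      Pi.single_add, Pi.single_add]
    abel
  map_smul' c v := by
    rw [RingHom.id_apply,
      show t * (c • v) (H.bar a) = c • (t * v (H.bar a)) by simp [mul_left_comm],
      show -(2 * t * (c • v) z) - t ^ 2 * (c • v) (H.bar a) =
        c • (-(2 * t * v z) - t ^ 2 * v (H.bar a)) by simp only [Pi.smul_apply, smul_eq_mul]; ring,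
      Pi.single_smul', Pi.single_smul', smul_add, smul_add]

theorem sMap_apply (z a : ι) (t : F) (v : ι → F) :
    H.sMap z a t v = v + Pi.single z (t * v (H.bar a)) +
      Pi.single a (-(2 * t * v z) - t ^ 2 * v (H.bar a) : F) := rfl

variable {H}

theorem lMap_add {a b : ι} (h : H.LOK a b) (t u : F) :
    (H.lMap a b t).comp (H.lMap a b u) = H.lMap a b (t + u) := by
  obtain ⟨h1, h2, h3, h4⟩ := h
  have e1 : b ≠ H.bar b := fun e => h2 e.symm
  have e2 : H.bar a ≠ H.bar b := fun e => h3 (H.bar_inj e)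
  have e3 : H.bar a ≠ a := h1
  refine LinearMap.ext fun v => ?_
  simp only [LinearMap.comp_apply, lMap_apply, Pi.add_apply, Pi.single_eq_of_ne' h3,
    Pi.single_eq_of_ne e1, Pi.single_eq_of_ne e3, Pi.single_eq_of_ne e2, add_zero]
  rw [add_mul, add_mul, neg_add, Pi.single_add, Pi.single_add]
  abel

theorem sMap_add {z a : ι} (h : H.SOK z a) (t u : F) :
    (H.sMap z a t).comp (H.sMap z a u) = H.sMap z a (t + u) := by
  obtain ⟨h1, h2⟩ := h
  have e0 : z ≠ a := fun e => h2 (e ▸ h1)
  have e1 : H.bar a ≠ z := fun e => h2 (by rw [← H.bar_bar a, e, h1] at e0; exact absurd rfl e0)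
  refine LinearMap.ext fun v => ?_
  simp only [LinearMap.comp_apply, sMap_apply, Pi.add_apply, Pi.single_eq_of_ne e1,
    Pi.single_eq_of_ne h2, Pi.single_eq_of_ne e0, Pi.single_eq_same, add_zero]
  rw [show -(2 * (t + u) * v z) - (t + u) ^ 2 * v (H.bar a) =
    (-(2 * u * v z) - u ^ 2 * v (H.bar a)) +
      (-(2 * t * (v z + u * v (H.bar a))) - t ^ 2 * v (H.bar a)) by ring,
    show (t + u) * v (H.bar a) = u * v (H.bar a) + t * v (H.bar a) by ring,
    Pi.single_add, Pi.single_add]
  abel

theorem lMap_zero (a b : ι) : H.lMap a b 0 = LinearMap.id := by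
  refine LinearMap.ext fun v => ?_
  simp [lMap_apply]

theorem sMap_zero (z a : ι) : H.sMap z a 0 = LinearMap.id := by
  refine LinearMap.ext fun v => ?_
  simp [sMap_apply]

/-- The long root element. -/
noncomputable def opL {a b : ι} (h : H.LOK a b) (t : F) : GL ι F :=
  ⟨LinearMap.toMatrix' (H.lMap a b t), LinearMap.toMatrix' (H.lMap a b (-t)),
    by rw [← LinearMap.toMatrix'_comp, lMap_add h, add_neg_cancel, lMap_zero, LinearMap.toMatrix'_id],
    by rw [← LinearMap.toMatrix'_comp, lMap_add h, neg_add_cancel, lMap_zero, LinearMap.toMatrix'_id]⟩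

/-- The short root element. -/
noncomputable def opS {z a : ι} (h : H.SOK z a) (t : F) : GL ι F :=
  ⟨LinearMap.toMatrix' (H.sMap z a t), LinearMap.toMatrix' (H.sMap z a (-t)),
    by rw [← LinearMap.toMatrix'_comp, sMap_add h, add_neg_cancel, sMap_zero, LinearMap.toMatrix'_id],
    by rw [← LinearMap.toMatrix'_comp, sMap_add h, neg_add_cancel, sMap_zero, LinearMap.toMatrix'_id]⟩

theorem opL_mulVec {a b : ι} (h : H.LOK a b) (t : F) (v : ι → F) :
    (opL h t : Matrix ι ι F) *ᵥ v = H.lMap a b t v :=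
  LinearMap.toMatrix'_mulVec _ _

theorem opS_mulVec {z a : ι} (h : H.SOK z a) (t : F) (v : ι → F) :
    (opS h t : Matrix ι ι F) *ᵥ v = H.sMap z a t v :=
  LinearMap.toMatrix'_mulVec _ _

theorem opL_add {a b : ι} (h : H.LOK a b) (t u : F) : opL h t * opL h u = opL h (t + u) :=
  glExt fun v => by
    rw [mulVec_glMul, opL_mulVec, opL_mulVec, opL_mulVec, ← lMap_add h, LinearMap.comp_apply]

theorem opS_add {z a : ι} (h : H.SOK z a) (t u : F) : opS h t * opS h u = opS h (t + u) :=
  glExt fun v => by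
    rw [mulVec_glMul, opS_mulVec, opS_mulVec, opS_mulVec, ← sMap_add h, LinearMap.comp_apply]

theorem opL_symm {a b : ι} (h : H.LOK a b) (t : F) : opL (LOK.symm H h) t = opL h (-t) :=
  glExt fun v => by
    rw [opL_mulVec, opL_mulVec, lMap_apply, lMap_apply, H.bar_bar, H.bar_bar, neg_mul, neg_mul,
      neg_neg]
    abel

variable (H)

/-- The isometry group of the form. -/
noncomputable abbrev orth : Subgroup (GL ι F) := Cfsg.isometryGroup F H.Q

theorem mem_orth {g : GL ι F} : g ∈ H.orth ↔ ∀ v, H.Q ((g : Matrix ι ι F) *ᵥ v) = H.Q v :=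
  ⟨fun h v => h v v, fun h u _ => h u⟩

variable {H}

theorem bar_ne {a : ι} (h : H.bar a ≠ a) : H.bar (H.bar a) ≠ H.bar a := fun e => h (H.bar_inj e)

theorem opL_mem_orth {a b : ι} (h : H.LOK a b) (t : F) : opL h t ∈ H.orth := by
  rw [mem_orth]
  intro v
  rw [opL_mulVec h t v, lMap_apply]
  obtain ⟨h1, h2, h3, h4⟩ := h
  rw [H.hQ _ _ _ (bar_ne h2), H.hQ _ _ _ h1, H.bar_bar, Pi.add_apply,
    Pi.single_eq_of_ne' h3, add_zero]
  ring

theorem opS_mem_orth {z a : ι} (h : H.SOK z a) (t : F) : opS h t ∈ H.orth := by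
  rw [mem_orth]
  intro v
  rw [opS_mulVec h t v, sMap_apply]
  obtain ⟨h1, h2⟩ := h
  have e1 : H.bar a ≠ z := fun e => h2 (by
    have := congrArg H.bar e
    rw [H.bar_bar, h1] at this
    rw [this, h1])
  rw [ H.hQ _ _ _ h2, H.hQ₀ _ _ _ h1, Pi.add_apply,
    Pi.single_eq_of_ne e1, add_zero]
  ring

variable (H)

/-- The subgroup generated by the root elements. -/
noncomputable def elemGroup : Subgroup (GL ι F) :=
  Subgroup.closure ({g | ∃ (a b : ι) (h : H.LOK a b) (t : F), g = opL h t} ∪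
    {g | ∃ (z a : ι) (h : H.SOK z a) (t : F), g = opS h t})

variable {H}

theorem opL_mem {a b : ι} (h : H.LOK a b) (t : F) : opL h t ∈ H.elemGroup :=
  Subgroup.subset_closure (Or.inl ⟨a, b, h, t, rfl⟩)

theorem opS_mem {z a : ι} (h : H.SOK z a) (t : F) : opS h t ∈ H.elemGroup :=
  Subgroup.subset_closure (Or.inr ⟨z, a, h, t, rfl⟩)

theorem elemGroup_le_orth : H.elemGroup ≤ H.orth := by
  refine (Subgroup.closure_le _).2 ?_
  rintro g (⟨a, b, h, t, rfl⟩ | ⟨z, a, h, t, rfl⟩)
  exacts [opL_mem_orth h t, opS_mem_orth h t]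

end HypForm

end CfsgLib.ChevClassical
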