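import Cfsg.Agent.Lib.ChevClassical.OrthGen

/-!
The orthogonal group is generated by the root elements, the diagonal isometries and one reflection
exchanging a hyperbolic pair; consequently its commutator subgroup lies in the group of root elements.
-/

set_option autoImplicit false
set_option linter.unusedSectionVars false

namespace CfsgLib.ChevClassical

open Matrix

variable {ι : Type} [Fintype ι] [DecidableEq ι] {F : Type*} [Field F]

/-- `g` maps the basis vector `i` to a multiple of itself. -/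
def DiagAt (g : GL ι F) (i : ι) : Prop :=
  ∃ c : F, (g : Matrix ι ι F) *ᵥ Pi.single i 1 = Pi.single i c

/-- `g` fixes the basis vector `i`. -/
def FixAt (g : GL ι F) (i : ι) : Prop :=
  (g : Matrix ι ι F) *ᵥ Pi.single i 1 = Pi.single i 1

theorem FixAt.single {g : GL ι F} {i : ι} (h : FixAt g i) (c : F) :
    (g : Matrix ι ι F) *ᵥ Pi.single i c = Pi.single i c := by
  rw [show (Pi.single i c : ι → F) = c • Pi.single i 1 by rw [← Pi.single_smul', smul_eq_mul, mul_one],
    Matrix.mulVec_smul, h]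

theorem FixAt.mul {g h : GL ι F} {i : ι} (hg : FixAt g i) (hh : FixAt h i) : FixAt (g * h) i := by
  rw [FixAt, mulVec_glMul, hh, hg]

theorem DiagAt.comp {g h : GL ι F} {i : ι} (hg : DiagAt g i) (hh : FixAt h i) :
    DiagAt (h * g) i := by
  obtain ⟨c, hc⟩ := hg
  exact ⟨c, by rw [mulVec_glMul, hc, hh.single]⟩

theorem glMulVec_injective (g : GL ι F) :
    Function.Injective fun v : ι → F => (g : Matrix ι ι F) *ᵥ v := by
  intro v w h
  have h' := congrArg (fun u => ((g⁻¹ : GL ι F) : Matrix ι ι F) *ᵥ u) h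
  simpa only [← mulVec_glMul, inv_mul_cancel, mulVec_glOne] using h'

/-- Elements whose commutators lie in a normal subgroup and which generate have the commutator
subgroup inside it. -/
theorem commutator_le_of_gens {G : Type*} [Group G] (N : Subgroup G) [N.Normal] (S : Set G)
    (hS : Subgroup.closure S = ⊤) (h : ∀ x ∈ S, ∀ y ∈ S, x * y * x⁻¹ * y⁻¹ ∈ N) :
    commutator G ≤ N := by
  have hc : ∀ x ∈ S, ∀ y, x * y * x⁻¹ * y⁻¹ ∈ N := by
    intro x hx y
    have hy : y ∈ Subgroup.closure S := hS ▸ Subgroup.mem_top y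
    induction hy using Subgroup.closure_induction with
    | mem y hy => exact h x hx y hy
    | one => simp
    | mul a b _ _ ha hb =>
      have : x * (a * b) * x⁻¹ * (a * b)⁻¹ =
          (x * a * x⁻¹ * a⁻¹) * (a * (x * b * x⁻¹ * b⁻¹) * a⁻¹) := by group
      rw [this]
      exact mul_mem ha (Subgroup.Normal.conj_mem ‹_› _ hb _)
    | inv a _ ha =>
      have : x * a⁻¹ * x⁻¹ * a⁻¹⁻¹ = a⁻¹ * (x * a * x⁻¹ * a⁻¹)⁻¹ * a⁻¹⁻¹ := by group
      rw [this]
      exact Subgroup.Normal.conj_mem ‹_› _ (inv_mem ha) _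
  rw [commutator_def, Subgroup.commutator_le]
  suffices key : ∀ x y : G, x * y * x⁻¹ * y⁻¹ ∈ N from fun x _ y _ => by
    rw [commutatorElement_def]; exact key x y
  intro x y
  have hx : x ∈ Subgroup.closure S := hS ▸ Subgroup.mem_top x
  induction hx using Subgroup.closure_induction generalizing y with
  | mem x hx => exact hc x hx y
  | one => simp
  | mul a b _ _ ha hb =>
    have : a * b * y * (a * b)⁻¹ * y⁻¹ =
        (a * (b * y * b⁻¹ * y⁻¹) * a⁻¹) * (a * y * a⁻¹ * y⁻¹) := by group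
    rw [this]
    exact mul_mem (Subgroup.Normal.conj_mem ‹_› _ (hb y) _) (ha y)
  | inv a _ ha =>
    have : a⁻¹ * y * a⁻¹⁻¹ * y⁻¹ = a⁻¹ * (a * y * a⁻¹ * y⁻¹)⁻¹ * a⁻¹⁻¹ := by group
    rw [this]
    exact Subgroup.Normal.conj_mem ‹_› _ (inv_mem (ha y)) _

namespace HypForm

variable {H : HypForm ι F}

theorem opL_fixAt {a b i : ι} (h : H.LOK a b) (t : F) (h1 : i ≠ b) (h2 : i ≠ H.bar a) :
    FixAt (opL h t) i := by
  rw [FixAt, opL_mulVec, lMap_apply]
  simp [Pi.single_eq_of_ne' h1, Pi.single_eq_of_ne' h2]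

theorem opS_fixAt {z a i : ι} (h : H.SOK z a) (t : F) (h1 : i ≠ z) (h2 : i ≠ H.bar a) :
    FixAt (opS h t) i := by
  rw [FixAt, opS_mulVec, sMap_apply]
  simp [Pi.single_eq_of_ne' h1, Pi.single_eq_of_ne' h2]

theorem opL_apply_of_ne {a b i : ι} (h : H.LOK a b) (t : F) (v : ι → F) (h1 : i ≠ a)
    (h2 : i ≠ H.bar b) : ((opL h t : Matrix ι ι F) *ᵥ v) i = v i := by
  rw [opL_mulVec, lMap_apply]
  simp [Pi.single_eq_of_ne h1, Pi.single_eq_of_ne h2]

theorem opL_apply_left {a b : ι} (h : H.LOK a b) (t : F) (v : ι → F) :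
    ((opL h t : Matrix ι ι F) *ᵥ v) a = v a + t * v b := by
  rw [opL_mulVec h t v, lMap_apply]
  simp [Pi.single_eq_of_ne h.2.2.2]

theorem opS_apply_of_ne {z a i : ι} (h : H.SOK z a) (t : F) (v : ι → F) (h1 : i ≠ z)
    (h2 : i ≠ a) : ((opS h t : Matrix ι ι F) *ᵥ v) i = v i := by
  rw [opS_mulVec, sMap_apply]
  simp [Pi.single_eq_of_ne h1, Pi.single_eq_of_ne h2]

theorem SOK.ne {z a : ι} (h : H.SOK z a) : z ≠ a ∧ z ≠ H.bar a := by
  refine ⟨fun e => h.2 (e ▸ h.1), fun e => h.2 ?_⟩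
  have := congrArg H.bar e
  rw [h.1, H.bar_bar] at this
  rw [← this, h.1]

theorem opS_apply_fixed {z a : ι} (h : H.SOK z a) (t : F) (v : ι → F) :
    ((opS h t : Matrix ι ι F) *ᵥ v) z = v z + t * v (H.bar a) := by
  rw [opS_mulVec h t v, sMap_apply]
  simp [Pi.single_eq_of_ne (SOK.ne h).1]

theorem opS_apply_short {z a : ι} (h : H.SOK z a) (t : F) (v : ι → F) :
    ((opS h t : Matrix ι ι F) *ᵥ v) a = v a + (-(2 * t * v z) - t ^ 2 * v (H.bar a)) := by
  rw [opS_mulVec h t v, sMap_apply]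
  simp [Pi.single_eq_of_ne' (SOK.ne h).1]

theorem Q_single {i : ι} (hi : H.bar i ≠ i) (c : F) : H.Q (Pi.single i c) = 0 := by
  have h := H.hQ i 0 c hi
  rwa [zero_add, H.Q_zero, Pi.zero_apply, mul_zero, add_zero] at h

theorem apply_partner {g : GL ι F} (hg : g ∈ H.orth) {i : ι} (hi : H.bar i ≠ i) {c : F}
    (hc : (g : Matrix ι ι F) *ᵥ Pi.single i 1 = Pi.single i c) (w : ι → F) :
    c * ((g : Matrix ι ι F) *ᵥ w) (H.bar i) = w (H.bar i) := by
  have h := H.mem_orth.1 hg (w + Pi.single i 1)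
  rw [Matrix.mulVec_add, hc, H.hQ _ _ _ hi, H.hQ _ _ _ hi, H.mem_orth.1 hg, one_mul] at h
  exact add_left_cancel h

theorem diag_ne_zero {g : GL ι F} {i : ι} {c : F}
    (hc : (g : Matrix ι ι F) *ᵥ Pi.single i 1 = Pi.single i c) : c ≠ 0 := by
  rintro rfl
  have h : (g : Matrix ι ι F) *ᵥ Pi.single i 1 = (g : Matrix ι ι F) *ᵥ 0 := by
    rw [Matrix.mulVec_zero, hc, Pi.single_zero]
  have := congrFun (glMulVec_injective g h) i
  simp at this

/-- A bar-closed set of paired basis vectors. -/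
def PairSet (H : HypForm ι F) (D : Finset ι) : Prop :=
  ∀ i ∈ D, H.bar i ≠ i ∧ H.bar i ∈ D

theorem apply_eq_zero {g : GL ι F} (hg : g ∈ H.orth) {D : Finset ι} (hD : H.PairSet D)
    (hd : ∀ i ∈ D, DiagAt g i) {k : ι} (hk : k ∉ D) :
    ∀ i ∈ D, ((g : Matrix ι ι F) *ᵥ Pi.single k 1) i = 0 := by
  intro i hi
  obtain ⟨h1, h2⟩ := hD i hi
  obtain ⟨c, hc⟩ := hd _ h2
  have h := apply_partner hg (bar_ne h1) hc (Pi.single k 1)
  rw [H.bar_bar, Pi.single_eq_of_ne (show i ≠ k from fun e => hk (e ▸ hi))] at h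
  exact (mul_eq_zero.1 h).resolve_left (diag_ne_zero hc)

/-- A singular vector with non-zero coordinate at `k` is moved to a multiple of the basis vector
`k`, fixing the partner of `k` and a given set of pairs. -/
theorem clear {D : Finset ι} (hD : H.PairSet D) {k : ι} (hk : H.bar k ≠ k) (hkD : k ∉ D)
    {v : ι → F} (hv : ∀ i ∈ D, v i = 0) (hvk : v k ≠ 0) (hQ : H.Q v = 0) :
    ∃ h ∈ H.elemGroup, (∀ i ∈ D, FixAt h i) ∧ FixAt h (H.bar k) ∧
      (h : Matrix ι ι F) *ᵥ v = Pi.single k (v k) := by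
  have hkbD : H.bar k ∉ D := fun h => hkD (H.bar_bar k ▸ (hD _ h).2)
  suffices key : ∀ S : Finset ι, k ∉ S → H.bar k ∉ S →
      ∃ h ∈ H.elemGroup, (∀ i ∈ D, FixAt h i) ∧ FixAt h (H.bar k) ∧
        ((h : Matrix ι ι F) *ᵥ v) k = v k ∧ (∀ i ∈ D, ((h : Matrix ι ι F) *ᵥ v) i = 0) ∧
        ∀ i ∈ S, ((h : Matrix ι ι F) *ᵥ v) i = 0 by
    obtain ⟨h, h1, h2, h3, h4, -, h5⟩ :=
      key (((Finset.univ : Finset ι).erase k).erase (H.bar k)) (by simp) (by simp)
    refine ⟨h, h1, h2, h3, ?_⟩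
    set w := (h : Matrix ι ι F) *ᵥ v with hw
    have hw2 : w = Pi.single k (v k) + Pi.single (H.bar k) (w (H.bar k)) := by
      funext i
      by_cases e1 : i = k
      · subst e1; simp [h4, Pi.single_eq_of_ne hk.symm]
      by_cases e2 : i = H.bar k
      · subst e2; simp [Pi.single_eq_of_ne hk]
      simp [Pi.single_eq_of_ne e1, Pi.single_eq_of_ne e2, h5 i (by simp [e1, e2])]
    have hQw : H.Q w = 0 := by rw [hw, H.mem_orth.1 (elemGroup_le_orth h1), hQ]
    rw [hw2, H.hQ _ _ _ (bar_ne hk), Q_single hk, zero_add, H.bar_bar, Pi.single_eq_same] at hQw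
    rw [hw2, (mul_eq_zero.1 hQw).resolve_right hvk, Pi.single_zero, add_zero]
  intro S
  induction S using Finset.induction_on with
  | empty =>
    intro _ _
    exact ⟨1, one_mem _, fun i _ => mulVec_glOne _, mulVec_glOne _, by rw [mulVec_glOne],
      fun i hi => by rw [mulVec_glOne]; exact hv i hi, by simp⟩
  | insert j S hjS ih =>
    intro hkS hkbS
    simp only [Finset.mem_insert, not_or] at hkS hkbS
    obtain ⟨h, h1, h2, h3, h4, h5, h6⟩ := ih hkS.2 hkbS.2
    set w := (h : Matrix ι ι F) *ᵥ v with hw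
    by_cases hjD : j ∈ D
    · refine ⟨h, h1, h2, h3, h4, h5, fun i hi => ?_⟩
      rcases Finset.mem_insert.1 hi with rfl | hi
      exacts [h5 _ hjD, h6 _ hi]
    by_cases hj : H.bar j = j
    · have hs : H.SOK j (H.bar k) := ⟨hj, bar_ne hk⟩
      set u := opS hs (-(w j) / v k) with hu
      have hsame : ∀ i, i ≠ j → i ≠ H.bar k → ((u : Matrix ι ι F) *ᵥ w) i = w i :=
        fun i a b => opS_apply_of_ne hs _ _ a b
      have hfix : ∀ i, i ≠ j → i ≠ k → FixAt u i :=
        fun i a b => opS_fixAt hs _ a (by rw [H.bar_bar]; exact b)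
      refine ⟨u * h, mul_mem (opS_mem hs _) h1,
        fun i hi => (hfix i (fun e => hjD (e ▸ hi)) (fun e => hkD (e ▸ hi))).mul (h2 i hi),
        (hfix _ hkbS.1 hk).mul h3, ?_, ?_, ?_⟩
      · rw [mulVec_glMul, ← hw, hsame k hkS.1 hk.symm, h4]
      · intro i hi
        rw [mulVec_glMul, ← hw, hsame i (fun e => hjD (e ▸ hi)) (fun e => hkbD (e ▸ hi)), h5 i hi]
      · intro i hi
        rw [mulVec_glMul, ← hw]
        rcases Finset.mem_insert.1 hi with rfl | hi
        · rw [hu, opS_apply_fixed, H.bar_bar, h4, div_mul_cancel₀ _ hvk, add_neg_cancel]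
        · rw [hsame i (fun e => hjS (e ▸ hi)) (fun e => hkbS.2 (e ▸ hi)), h6 i hi]
    · have hl : H.LOK j k := ⟨hj, hk, Ne.symm hkS.1, Ne.symm hkbS.1⟩
      have hjbD : H.bar j ∉ D := fun h => hjD (H.bar_bar j ▸ (hD _ h).2)
      set u := opL hl (-(w j) / v k) with hu
      have hsame : ∀ i, i ≠ j → i ≠ H.bar k → ((u : Matrix ι ι F) *ᵥ w) i = w i :=
        fun i a b => opL_apply_of_ne hl _ _ a b
      refine ⟨u * h, mul_mem (opL_mem hl _) h1,
        fun i hi => (opL_fixAt hl _ (fun e => hkD (e ▸ hi)) (fun e => hjbD (e ▸ hi))).mul (h2 i hi),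
        (opL_fixAt hl _ hk fun e => hkS.1 (H.bar_inj e)).mul h3, ?_, ?_, ?_⟩
      · rw [mulVec_glMul, ← hw, hsame k hkS.1 hk.symm, h4]
      · intro i hi
        rw [mulVec_glMul, ← hw, hsame i (fun e => hjD (e ▸ hi)) (fun e => hkbD (e ▸ hi)), h5 i hi]
      · intro i hi
        rw [mulVec_glMul, ← hw]
        rcases Finset.mem_insert.1 hi with rfl | hi
        · rw [hu, opL_apply_left, h4, div_mul_cancel₀ _ hvk, add_neg_cancel]
        · rw [hsame i (fun e => hjS (e ▸ hi)) (fun e => hkbS.2 (e ▸ hi)), h6 i hi]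

/-- A further pair or the fixed vector lies outside `D` and the pair of `k`. -/
def Spare (H : HypForm ι F) (D : Finset ι) (k : ι) : Prop :=
  (∃ z, H.bar z = z) ∨ ∃ j, H.bar j ≠ j ∧ j ∉ D ∧ j ≠ k ∧ j ≠ H.bar k

theorem make_nonzero_aux {D : Finset ι} (hD : H.PairSet D) {k : ι} (hk : H.bar k ≠ k)
    (hkD : k ∉ D) {v : ι → F} (hv : ∀ i ∈ D, v i = 0) {j : ι} (hj : H.bar j ≠ j) (hjD : j ∉ D)
    (h1 : j ≠ k) (h2 : j ≠ H.bar k) (hvk : v k = 0) (hvj : v j ≠ 0) :
    ∃ h ∈ H.elemGroup, (∀ i ∈ D, FixAt h i) ∧ ((h : Matrix ι ι F) *ᵥ v) k ≠ 0 ∧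
      ∀ i ∈ D, ((h : Matrix ι ι F) *ᵥ v) i = 0 := by
  have hl : H.LOK k j := ⟨hk, hj, h1.symm, fun e => h2 (by rw [e, H.bar_bar])⟩
  refine ⟨opL hl 1, opL_mem hl 1,
    fun i hi => opL_fixAt hl _ (fun e => hjD (e ▸ hi)) (fun e => hkD (H.bar_bar k ▸ e ▸ (hD i hi).2)),
    by rw [opL_apply_left, hvk, zero_add, one_mul]; exact hvj, fun i hi => ?_⟩
  rw [opL_apply_of_ne hl _ _ (fun e => hkD (e ▸ hi)) (fun e => hjD (H.bar_bar j ▸ e ▸ (hD i hi).2))]
  exact hv i hi

theorem make_nonzero {D : Finset ι} (hD : H.PairSet D) {k : ι} (hk : H.bar k ≠ k)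
    (hkD : k ∉ D) {v : ι → F} (hv : ∀ i ∈ D, v i = 0) (hv0 : v ≠ 0) (hQ : H.Q v = 0)
    (hs : H.Spare D k) :
    ∃ h ∈ H.elemGroup, (∀ i ∈ D, FixAt h i) ∧ ((h : Matrix ι ι F) *ᵥ v) k ≠ 0 ∧
      ∀ i ∈ D, ((h : Matrix ι ι F) *ᵥ v) i = 0 := by
  by_cases hvk : v k ≠ 0
  · exact ⟨1, one_mem _, fun i _ => mulVec_glOne _, by rwa [mulVec_glOne],
      fun i hi => by rw [mulVec_glOne]; exact hv i hi⟩
  push Not at hvk
  have hkbD : H.bar k ∉ D := fun h => hkD (H.bar_bar k ▸ (hD _ h).2)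
  by_cases hex : ∃ j, H.bar j ≠ j ∧ j ∉ D ∧ j ≠ k ∧ j ≠ H.bar k ∧ v j ≠ 0
  · obtain ⟨j, a, b, c, d, e⟩ := hex
    exact make_nonzero_aux hD hk hkD hv a b c d hvk e
  push Not at hex
  have hzero : ∀ i, H.bar i ≠ i → i ≠ H.bar k → v i = 0 := by
    intro i a c
    by_cases hiD : i ∈ D
    · exact hv i hiD
    by_cases hik : i = k
    · rw [hik, hvk]
    exact hex i a hiD hik c
  have hvkb : v (H.bar k) ≠ 0 := by
    intro h0
    apply hv0
    have hall : ∀ i, H.bar i ≠ i → v i = 0 := fun i a =>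
      if e : i = H.bar k then e ▸ h0 else hzero i a e
    by_cases hz : ∃ z, H.bar z = z
    · obtain ⟨z, hz⟩ := hz
      have hvz : v = Pi.single z (v z) := by
        funext i
        by_cases e : i = z
        · subst e; simp
        · rw [Pi.single_eq_of_ne e, hall i fun e' => e (H.fix_unique _ _ e' hz)]
      have h := H.hQ₀ z 0 (v z) hz
      rw [zero_add, ← hvz, hQ, H.Q_zero] at h
      have hvz0 : v z = 0 := by simpa using h.symm
      rw [hvz, hvz0, Pi.single_zero]
    · funext i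
      exact hall i fun e => hz ⟨i, e⟩
  rcases hs with ⟨z, hz⟩ | ⟨j, hj, hjD, h1, h2⟩
  · have hzk : z ≠ H.bar k := fun e => hk (by
      rw [e, H.bar_bar] at hz; exact hz.symm)
    have hzk' : z ≠ k := fun e => hk (e ▸ hz)
    have hvz : v z = 0 := by
      have hv2 : v = Pi.single (H.bar k) (v (H.bar k)) + Pi.single z (v z) := by
        funext i
        by_cases e : i = z
        · subst e; simp [Pi.single_eq_of_ne hzk]
        by_cases e' : i = H.bar k
        · subst e'; simp [Pi.single_eq_of_ne e]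
        rw [hzero i (fun e'' => e (H.fix_unique _ _ e'' hz)) e']
        simp [Pi.single_eq_of_ne e, Pi.single_eq_of_ne e']
      rw [hv2, H.hQ₀ _ _ _ hz, Q_single (bar_ne hk), Pi.single_eq_of_ne hzk] at hQ
      simpa using hQ
    have hsk : H.SOK z k := ⟨hz, hk⟩
    refine ⟨opS hsk 1, opS_mem hsk 1, fun i hi => opS_fixAt hsk _ (fun e => (hD i hi).1 (by rw [e]; exact hz))
      (fun e => hkbD (e ▸ hi)), ?_, fun i hi => ?_⟩
    · rw [opS_apply_short, hvk, hvz]
      simpa using hvkb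
    · rw [opS_apply_of_ne hsk _ _ (fun e => (hD i hi).1 (by rw [e]; exact hz)) (fun e => hkD (e ▸ hi))]
      exact hv i hi
  · have hl : H.LOK j (H.bar k) := ⟨hj, bar_ne hk, h2, by rw [H.bar_bar]; exact h1⟩
    set v' := (opL hl 1 : Matrix ι ι F) *ᵥ v with hv'
    have e1 : v' j ≠ 0 := by
      rw [hv', opL_apply_left, hzero j hj h2, zero_add, one_mul]
      exact hvkb
    have e2 : ∀ i ∈ D, v' i = 0 := fun i hi => by
      rw [hv', opL_apply_of_ne hl _ _ (fun e => hjD (e ▸ hi))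
        (fun e => hkD (by rw [H.bar_bar] at e; exact e ▸ hi))]
      exact hv i hi
    have hfix : ∀ i ∈ D, FixAt (opL hl 1) i := fun i hi =>
      opL_fixAt hl _ (fun e => hkbD (e ▸ hi)) (fun e => hjD (H.bar_bar j ▸ e ▸ (hD i hi).2))
    by_cases e3 : v' k = 0
    · obtain ⟨h, a, b, c, d⟩ := make_nonzero_aux hD hk hkD e2 hj hjD h1 h2 e3 e1
      exact ⟨h * opL hl 1, mul_mem a (opL_mem hl 1), fun i hi => (b i hi).mul (hfix i hi),
        by rw [mulVec_glMul]; exact c, fun i hi => by rw [mulVec_glMul]; exact d i hi⟩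
    · exact ⟨opL hl 1, opL_mem hl 1, hfix, e3, e2⟩

/-- One pair is reduced. -/
theorem step {g : GL ι F} (hg : g ∈ H.orth) {D : Finset ι} (hD : H.PairSet D)
    (hd : ∀ i ∈ D, DiagAt g i) {k : ι} (hk : H.bar k ≠ k) (hkD : k ∉ D)
    (hs : H.Spare D k ∨ ((g : Matrix ι ι F) *ᵥ Pi.single k 1) k ≠ 0) :
    ∃ h ∈ H.elemGroup, ∀ i ∈ insert k (insert (H.bar k) D), DiagAt (h * g) i := by
  set v := (g : Matrix ι ι F) *ᵥ Pi.single k 1 with hvdef
  have hv0 : v ≠ 0 := fun e => by
    have h : (g : Matrix ι ι F) *ᵥ Pi.single k 1 = (g : Matrix ι ι F) *ᵥ 0 := by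
      rw [Matrix.mulVec_zero, ← hvdef, e]
    simpa using congrFun (glMulVec_injective g h) k
  have hvD := apply_eq_zero hg hD hd hkD
  have hQ : H.Q v = 0 := by rw [hvdef, H.mem_orth.1 hg, Q_single hk]
  obtain ⟨a, ha1, ha2, ha3, ha4⟩ : ∃ a ∈ H.elemGroup, (∀ i ∈ D, FixAt a i) ∧
      ((a : Matrix ι ι F) *ᵥ v) k ≠ 0 ∧ ∀ i ∈ D, ((a : Matrix ι ι F) *ᵥ v) i = 0 := by
    rcases hs with hs | hs
    · exact make_nonzero hD hk hkD hvD hv0 hQ hs
    · exact ⟨1, one_mem _, fun i _ => mulVec_glOne _, by rw [mulVec_glOne]; exact hs,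
        fun i hi => by rw [mulVec_glOne]; exact hvD i hi⟩
  obtain ⟨b, hb1, hb2, -, hb4⟩ := clear hD hk hkD ha4 ha3
    (by rw [H.mem_orth.1 (elemGroup_le_orth ha1), hQ])
  set g' := b * (a * g) with hg'
  have hg'O : g' ∈ H.orth := mul_mem (elemGroup_le_orth hb1) (mul_mem (elemGroup_le_orth ha1) hg)
  have hd' : ∀ i ∈ D, DiagAt g' i := fun i hi => ((hd i hi).comp (ha2 i hi)).comp (hb2 i hi)
  have hk' : (g' : Matrix ι ι F) *ᵥ Pi.single k 1 = Pi.single k (((a : Matrix ι ι F) *ᵥ v) k) := by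
    rw [hg', mulVec_glMul, mulVec_glMul]; exact hb4
  set f := (g' : Matrix ι ι F) *ᵥ Pi.single (H.bar k) 1 with hf
  have hfk : f (H.bar k) ≠ 0 := fun e => by
    have h := apply_partner hg'O hk hk' (Pi.single (H.bar k) 1)
    rw [← hf, e, mul_zero, Pi.single_eq_same] at h
    exact zero_ne_one h
  have hkbD : H.bar k ∉ D := fun h => hkD (H.bar_bar k ▸ (hD _ h).2)
  obtain ⟨c, hc1, hc2, hc3, hc4⟩ := clear hD (bar_ne hk) hkbD (v := f)
    (apply_eq_zero hg'O hD hd' hkbD) hfk (by rw [hf, H.mem_orth.1 hg'O, Q_single (bar_ne hk)])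
  rw [H.bar_bar] at hc3
  refine ⟨c * (b * a), mul_mem hc1 (mul_mem hb1 ha1), fun i hi => ?_⟩
  rw [show c * (b * a) * g = c * g' by rw [hg']; group]
  rcases Finset.mem_insert.1 hi with rfl | hi
  · exact DiagAt.comp ⟨_, hk'⟩ hc3
  rcases Finset.mem_insert.1 hi with rfl | hi
  · exact ⟨f (H.bar k), by rw [mulVec_glMul]; exact hc4⟩
  · exact (hd' i hi).comp (hc2 i hi)

variable (H)

/-- The diagonal isometries. -/
def diagSet : Set (GL ι F) := {d | d ∈ H.orth ∧ ∀ i, DiagAt d i}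

variable {H}

/-- The permutation matrix of an involution commuting with `bar`. -/
noncomputable def permGL (π : Equiv.Perm ι) : GL ι F :=
  ⟨LinearMap.toMatrix' (LinearMap.funLeft F F π), LinearMap.toMatrix' (LinearMap.funLeft F F π.symm),
    by
      rw [← LinearMap.toMatrix'_comp, ← LinearMap.funLeft_comp]
      convert LinearMap.toMatrix'_id (R := F) (n := ι)
      ext v i
      simp [LinearMap.funLeft_apply],
    by
      rw [← LinearMap.toMatrix'_comp, ← LinearMap.funLeft_comp]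
      convert LinearMap.toMatrix'_id (R := F) (n := ι)
      ext v i
      simp [LinearMap.funLeft_apply]⟩

theorem permGL_mulVec (π : Equiv.Perm ι) (v : ι → F) :
    ((permGL π : GL ι F) : Matrix ι ι F) *ᵥ v = v ∘ π := LinearMap.toMatrix'_mulVec _ _

theorem permGL_single (π : Equiv.Perm ι) (i : ι) (c : F) :
    ((permGL π : GL ι F) : Matrix ι ι F) *ᵥ Pi.single i c = Pi.single (π.symm i) c := by
  rw [permGL_mulVec]
  funext j
  by_cases e : π j = i
  · subst e; simp
  · rw [Function.comp_apply, Pi.single_eq_of_ne e,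
      Pi.single_eq_of_ne fun e' => e (by rw [e', Equiv.apply_symm_apply])]

/-- The exchange of the basis vectors of the pair of `k₀`, when it is an isometry. -/
structure PairSwap (H : HypForm ι F) (k₀ : ι) : Prop where
  ne : H.bar k₀ ≠ k₀
  mem : permGL (Equiv.swap k₀ (H.bar k₀)) ∈ H.orth

/-- Every isometry lies in the group generated by root elements, diagonal isometries and the pair
exchange. -/
theorem orth_le_gen {k₀ : ι} (hS : PairSwap H k₀) :
    H.orth ≤ Subgroup.closure ((H.elemGroup : Set (GL ι F)) ∪ H.diagSet ∪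
      {permGL (Equiv.swap k₀ (H.bar k₀))}) := by
  classical
  set σ : GL ι F := permGL (Equiv.swap k₀ (H.bar k₀)) with hσ
  set K := Subgroup.closure ((H.elemGroup : Set (GL ι F)) ∪ H.diagSet ∪ {σ}) with hK
  suffices key : ∀ (n : ℕ) (g : GL ι F), g ∈ H.orth → ∀ D : Finset ι, H.PairSet D →
      (k₀ ∈ D → ∀ i, H.bar i ≠ i → i ∈ D) → (∀ i ∈ D, DiagAt g i) →
      Fintype.card ι - D.card ≤ n → g ∈ K from
    fun g hg => key _ g hg ∅ (by simp [PairSet]) (by simp) (by simp) le_rfl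
  have hdiag : ∀ (g : GL ι F), g ∈ H.orth → ∀ D : Finset ι, (∀ i ∈ D, DiagAt g i) →
      (∀ i, H.bar i ≠ i → i ∈ D) → g ∈ K := by
    intro g hg D hd hall
    refine Subgroup.subset_closure (Or.inl (Or.inr ⟨hg, fun i => ?_⟩))
    by_cases hi : H.bar i ≠ i
    · exact hd i (hall i hi)
    push Not at hi
    refine ⟨((g : Matrix ι ι F) *ᵥ Pi.single i 1) i, funext fun j => ?_⟩
    by_cases e : j = i
    · subst e; simp
    rw [Pi.single_eq_of_ne e]
    have hj : H.bar j ≠ j := fun e' => e (H.fix_unique _ _ e' hi)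
    obtain ⟨c, hc⟩ := hd _ (hall _ (bar_ne hj))
    have h := apply_partner hg (bar_ne hj) hc (Pi.single i 1)
    rw [H.bar_bar, Pi.single_eq_of_ne e] at h
    exact (mul_eq_zero.1 h).resolve_left (diag_ne_zero hc)
  intro n
  induction n with
  | zero =>
    intro g hg D _ _ hd hcard
    refine hdiag g hg D hd fun i _ => ?_
    have : D = Finset.univ := Finset.eq_univ_of_card _ (le_antisymm (Finset.card_le_univ _) (by omega))
    rw [this]; exact Finset.mem_univ _
  | succ n ih =>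
    intro g hg D hD hk0 hd hcard
    by_cases hall : ∀ i, H.bar i ≠ i → i ∈ D
    · exact hdiag g hg D hd hall
    push Not at hall
    have hk0D : k₀ ∉ D := fun h => by
      obtain ⟨i, hi, hiD⟩ := hall; exact hiD (hk0 h i hi)
    have hk0bD : H.bar k₀ ∉ D := fun h => hk0D (H.bar_bar k₀ ▸ (hD _ h).2)
    have hpair : ∀ k, H.bar k ≠ k → H.PairSet (insert k (insert (H.bar k) D)) := by
      intro k hk i hi
      simp only [Finset.mem_insert] at hi ⊢
      rcases hi with rfl | rfl | hi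
      · exact ⟨hk, Or.inr (Or.inl rfl)⟩
      · exact ⟨bar_ne hk, Or.inl (H.bar_bar k)⟩
      · exact ⟨(hD i hi).1, Or.inr (Or.inr (hD i hi).2)⟩
    have hless : ∀ k, k ∉ D → Fintype.card ι - (insert k (insert (H.bar k) D)).card ≤ n := by
      intro k hk
      have h1 : (insert k D).card ≤ (insert k (insert (H.bar k) D)).card :=
        Finset.card_le_card (Finset.insert_subset_insert _ (Finset.subset_insert _ _))
      rw [Finset.card_insert_of_notMem hk] at h1
      omega
    by_cases hex : ∃ k, H.bar k ≠ k ∧ k ∉ D ∧ k ≠ k₀ ∧ k ≠ H.bar k₀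
    · obtain ⟨k, hk, hkD, h1, h2⟩ := hex
      have hsp : H.Spare D k := Or.inr ⟨k₀, hS.ne, hk0D, h1.symm, fun e => h2 (by rw [e, H.bar_bar])⟩
      obtain ⟨h, hh, hd'⟩ := step hg hD hd hk hkD (Or.inl hsp)
      have := ih (h * g) (mul_mem (elemGroup_le_orth hh) hg) _ (hpair k hk) (by
        intro hin
        simp only [Finset.mem_insert] at hin
        rcases hin with e | e | e
        exacts [absurd e.symm h1, absurd (by rw [e, H.bar_bar]) h2, absurd e hk0D]) hd' (hless k hkD)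
      exact (K.mul_mem_cancel_left (Subgroup.subset_closure (Or.inl (Or.inl hh)))).1 this
    push Not at hex
    have hlast : ∀ i, H.bar i ≠ i → i ∈ insert k₀ (insert (H.bar k₀) D) := by
      intro i hi
      by_cases e : i ∈ D
      · simp [e]
      by_cases e' : i = k₀
      · simp [e']
      simp [hex i hi e e']
    have finish : ∀ g' : GL ι F, g' ∈ H.orth → (∀ i ∈ D, DiagAt g' i) →
        (H.Spare D k₀ ∨ ((g' : Matrix ι ι F) *ᵥ Pi.single k₀ 1) k₀ ≠ 0) → g' ∈ K := by
      intro g' hg' hd' hs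
      obtain ⟨h, hh, hd''⟩ := step hg' hD hd' hS.ne hk0D hs
      have := hdiag (h * g') (mul_mem (elemGroup_le_orth hh) hg') _ hd'' hlast
      exact (K.mul_mem_cancel_left (Subgroup.subset_closure (Or.inl (Or.inl hh)))).1 this
    by_cases hz : ∃ z, H.bar z = z
    · exact finish g hg hd (Or.inl (Or.inl hz))
    by_cases hv : ((g : Matrix ι ι F) *ᵥ Pi.single k₀ 1) k₀ ≠ 0
    · exact finish g hg hd (Or.inr hv)
    push Not at hv
    refine (K.mul_mem_cancel_left (Subgroup.subset_closure (Or.inr rfl) : σ ∈ K)).1 ?_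
    refine finish (σ * g) (mul_mem hS.mem hg) (fun i hi => (hd i hi).comp ?_) (Or.inr ?_)
    · rw [FixAt, hσ, permGL_single, Equiv.symm_swap,
        Equiv.swap_apply_of_ne_of_ne (fun e => hk0D (by rw [← e]; exact hi)) (fun e => hk0bD (by rw [← e]; exact hi))]
    · rw [mulVec_glMul, hσ, permGL_mulVec, Function.comp_apply, Equiv.swap_apply_left]
      intro h0
      set v := (g : Matrix ι ι F) *ᵥ Pi.single k₀ 1 with hvd
      have hvz : v = 0 := by
        funext i
        have hi : H.bar i ≠ i := fun e => hz ⟨i, e⟩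
        have := hlast i hi
        simp only [Finset.mem_insert] at this
        rcases this with rfl | rfl | h
        exacts [hv, h0, apply_eq_zero hg hD hd hk0D i h]
      have h2 : (g : Matrix ι ι F) *ᵥ Pi.single k₀ 1 = (g : Matrix ι ι F) *ᵥ 0 := by
        rw [Matrix.mulVec_zero, ← hvd, hvz]
      simpa using congrFun (glMulVec_injective g h2) k₀

theorem diag_apply {d : GL ι F} {c : ι → F}
    (hc : ∀ i, (d : Matrix ι ι F) *ᵥ Pi.single i 1 = Pi.single i (c i)) (v : ι → F) :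
    (d : Matrix ι ι F) *ᵥ v = fun i => c i * v i := by
  have hv : v = ∑ i, v i • Pi.single i (1 : F) := by
    rw [Finset.sum_congr rfl fun i _ => by rw [← Pi.single_smul', smul_eq_mul, mul_one],
      Finset.univ_sum_single]
  conv_lhs => rw [hv, Matrix.mulVec_sum]
  funext j
  rw [Finset.sum_apply, Finset.sum_eq_single j]
  · rw [Matrix.mulVec_smul, hc]; simp [mul_comm]
  · intro i _ hi
    rw [Matrix.mulVec_smul, hc]
    simp [Pi.single_eq_of_ne hi.symm]
  · simp

theorem diag_coeff {d : GL ι F} (hd : d ∈ H.diagSet) :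
    ∃ c : ι → F, (∀ v, (d : Matrix ι ι F) *ᵥ v = fun i => c i * v i) ∧
      (∀ i, H.bar i ≠ i → c i * c (H.bar i) = 1) ∧ (∀ i, c i ≠ 0) ∧
      ∀ z, H.bar z = z → c z * c z = 1 := by
  choose c hc using hd.2
  refine ⟨c, diag_apply hc, fun i hi => ?_, fun i => diag_ne_zero (hc i), fun z hz => ?_⟩
  · have h := apply_partner hd.1 hi (hc i) (Pi.single (H.bar i) 1)
    rwa [hc, Pi.single_eq_same, Pi.single_eq_same] at h
  · have h := H.mem_orth.1 hd.1 (Pi.single z 1)
    have hq : ∀ a : F, H.Q (Pi.single z a) = a ^ 2 := fun a => by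
      have := H.hQ₀ z 0 a hz
      rwa [zero_add, H.Q_zero, Pi.zero_apply, mul_zero, add_zero, zero_add] at this
    rw [hc, hq, hq, one_pow] at h
    rw [← sq]; exact h

theorem conj_eq_of {g x y : GL ι F}
    (h : ∀ v, (g : Matrix ι ι F) *ᵥ ((x : Matrix ι ι F) *ᵥ v) =
      (y : Matrix ι ι F) *ᵥ ((g : Matrix ι ι F) *ᵥ v)) : g * x * g⁻¹ = y := by
  rw [mul_inv_eq_iff_eq_mul]
  exact glExt fun v => by rw [mulVec_glMul, mulVec_glMul, h]

theorem diag_conj_mem {d : GL ι F} (hd : d ∈ H.diagSet) {g : GL ι F} (hg : g ∈ H.elemGroup) :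
    d * g * d⁻¹ ∈ H.elemGroup := by
  obtain ⟨c, hc, hcc, hc0, hcz⟩ := diag_coeff hd
  induction hg using Subgroup.closure_induction with
  | mem g hg =>
    rcases hg with ⟨a, b, h, t, rfl⟩ | ⟨z, a, h, t, rfl⟩
    · have key : d * opL h t * d⁻¹ = opL h (t * c a / c b) := conj_eq_of fun v => by
        rw [hc, hc, opL_mulVec, opL_mulVec, lMap_apply, lMap_apply]
        funext i
        have hb : c (H.bar b) = (c b)⁻¹ := eq_inv_of_mul_eq_one_right (hcc b h.2.1)
        have ha : c (H.bar a) = (c a)⁻¹ := eq_inv_of_mul_eq_one_right (hcc a h.1)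
        have hca := hc0 a
        have hcb := hc0 b
        simp only [Pi.add_apply]
        by_cases e1 : i = a
        · subst e1
          simp [Pi.single_eq_of_ne h.2.2.2]
          field_simp
        by_cases e2 : i = H.bar b
        · subst e2
          simp [Pi.single_eq_of_ne e1, hb, ha]
          field_simp
        simp [Pi.single_eq_of_ne e1, Pi.single_eq_of_ne e2]
      rw [key]; exact opL_mem h _
    · have key : d * opS h t * d⁻¹ = opS h (t * c a * c z) := conj_eq_of fun v => by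
        rw [hc, hc, opS_mulVec, opS_mulVec, sMap_apply, sMap_apply]
        funext i
        have h2 := hcz z h.1
        have ha := hcc a h.2
        simp only [Pi.add_apply]
        by_cases e1 : i = z
        · subst e1
          simp [Pi.single_eq_of_ne (SOK.ne h).1]
          linear_combination (-(t * c i * v (H.bar a))) * ha
        by_cases e2 : i = a
        · subst e2
          simp [Pi.single_eq_of_ne e1]
          linear_combination (2 * t * c i * v z + t ^ 2 * c i ^ 2 * c (H.bar i) * v (H.bar i)) * h2 +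
            (t ^ 2 * c i * v (H.bar i)) * ha
        simp [Pi.single_eq_of_ne e1, Pi.single_eq_of_ne e2]
      rw [key]; exact opS_mem h _
  | one => simp
  | mul x y _ _ hx hy =>
    rw [show d * (x * y) * d⁻¹ = (d * x * d⁻¹) * (d * y * d⁻¹) by group]
    exact mul_mem hx hy
  | inv x _ hx =>
    rw [show d * x⁻¹ * d⁻¹ = (d * x * d⁻¹)⁻¹ by group]
    exact inv_mem hx

theorem perm_conj_mem (π : Equiv.Perm ι) (hπ : ∀ i, H.bar (π i) = π (H.bar i)) {g : GL ι F}
    (hg : g ∈ H.elemGroup) : permGL π * g * (permGL π)⁻¹ ∈ H.elemGroup := by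
  have hs : ∀ i, H.bar (π.symm i) = π.symm (H.bar i) := fun i => by
    apply π.injective
    rw [← hπ, Equiv.apply_symm_apply, Equiv.apply_symm_apply]
  induction hg using Subgroup.closure_induction with
  | mem g hg =>
    rcases hg with ⟨a, b, h, t, rfl⟩ | ⟨z, a, h, t, rfl⟩
    · have h' : H.LOK (π.symm a) (π.symm b) :=
        ⟨fun e => h.1 (π.symm.injective (by rw [← hs, e])),
         fun e => h.2.1 (π.symm.injective (by rw [← hs, e])),
         fun e => h.2.2.1 (π.symm.injective e),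
         fun e => h.2.2.2 (π.symm.injective (by rw [← hs, ← e]))⟩
      have key : permGL π * opL h t * (permGL π)⁻¹ = opL h' t := conj_eq_of fun v => by
        rw [permGL_mulVec, permGL_mulVec, opL_mulVec, opL_mulVec, lMap_apply, lMap_apply, hs, hs]
        funext i
        simp [Pi.single_apply, Equiv.eq_symm_apply]
      rw [key]; exact opL_mem h' _
    · have h' : H.SOK (π.symm z) (π.symm a) :=
        ⟨by rw [hs, h.1], fun e => h.2 (π.symm.injective (by rw [← hs, e]))⟩
      have key : permGL π * opS h t * (permGL π)⁻¹ = opS h' t := conj_eq_of fun v => by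
        rw [permGL_mulVec, permGL_mulVec, opS_mulVec, opS_mulVec, sMap_apply, sMap_apply, hs]
        funext i
        simp [Pi.single_apply, Equiv.eq_symm_apply]
      rw [key]; exact opS_mem h' _
  | one => simp
  | mul x y _ _ hx hy =>
    rw [show permGL π * (x * y) * (permGL π)⁻¹ =
      (permGL π * x * (permGL π)⁻¹) * (permGL π * y * (permGL π)⁻¹) by group]
    exact mul_mem hx hy
  | inv x _ hx =>
    rw [show permGL π * x⁻¹ * (permGL π)⁻¹ = (permGL π * x * (permGL π)⁻¹)⁻¹ by group]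
    exact inv_mem hx

/-- The commutator subgroup of the isometry group lies in the group of root elements. -/
theorem commutator_orth_le {k₀ : ι} (hS : PairSwap H k₀)
    (hT : (∀ u : F, u ≠ 0 → ∃ e ∈ H.elemGroup, ∀ v, (e : Matrix ι ι F) *ᵥ v =
      fun i => (if i = k₀ then u ^ 2 else if i = H.bar k₀ then (u ^ 2)⁻¹ else 1) * v i)) :
    commutator ↥H.orth ≤ H.elemGroup.subgroupOf H.orth := by
  classical
  set π := Equiv.swap k₀ (H.bar k₀) with hπd
  set σ : GL ι F := permGL π with hσ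
  have hπ : ∀ i, H.bar (π i) = π (H.bar i) := by
    intro i
    by_cases e1 : i = k₀
    · subst e1; rw [hπd, Equiv.swap_apply_left, Equiv.swap_apply_right, H.bar_bar]
    by_cases e2 : i = H.bar k₀
    · subst e2; rw [hπd, Equiv.swap_apply_right, H.bar_bar, Equiv.swap_apply_left]
    rw [hπd, Equiv.swap_apply_of_ne_of_ne e1 e2, Equiv.swap_apply_of_ne_of_ne
      (fun e => e2 (by rw [← e, H.bar_bar])) (fun e => e1 (H.bar_inj e))]
  set S : Set (GL ι F) := (H.elemGroup : Set (GL ι F)) ∪ H.diagSet ∪ {σ} with hSd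
  have hSO : S ⊆ H.orth := by
    rintro x ((h | h) | h)
    · exact elemGroup_le_orth h
    · exact h.1
    · rw [Set.mem_singleton_iff.1 h]; exact hS.mem
  have hgen : H.orth ≤ Subgroup.closure S := orth_le_gen hS
  have hconj : ∀ x ∈ S, ∀ g ∈ H.elemGroup, x * g * x⁻¹ ∈ H.elemGroup := by
    rintro x ((h | h) | h) g hg
    · exact mul_mem (mul_mem h hg) (inv_mem h)
    · exact diag_conj_mem h hg
    · rw [Set.mem_singleton_iff.1 h]; exact perm_conj_mem π hπ hg
  have hσσ : σ⁻¹ = σ := inv_eq_of_mul_eq_one_right (glExt fun v => by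
    rw [mulVec_glMul, mulVec_glOne, hσ, permGL_mulVec, permGL_mulVec]
    funext i; simp [hπd])
  have hconj' : ∀ x ∈ S, ∀ g ∈ H.elemGroup, x⁻¹ * g * x ∈ H.elemGroup := by
    rintro x ((h | h) | h) g hg
    · exact mul_mem (mul_mem (inv_mem h) hg) h
    · obtain ⟨c, hc, -, hc0, -⟩ := diag_coeff h
      have hinv : x⁻¹ ∈ H.diagSet := by
        refine ⟨inv_mem h.1, fun i => ⟨(c i)⁻¹, glMulVec_injective x ?_⟩⟩
        simp only
        rw [← mulVec_glMul, mul_inv_cancel, mulVec_glOne, hc]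
        funext j
        by_cases e : j = i
        · subst e; simp [hc0 j]
        · simp [Pi.single_eq_of_ne e]
      simpa using diag_conj_mem hinv hg
    · rw [Set.mem_singleton_iff.1 h, hσσ]
      have := perm_conj_mem (F := F) π hπ hg
      rwa [← hσ, hσσ] at this
  have hnorm : ∀ x ∈ Subgroup.closure S, ∀ g ∈ H.elemGroup, x * g * x⁻¹ ∈ H.elemGroup := by
    intro x hx
    induction hx using Subgroup.closure_induction'' with
    | mem x hx => exact hconj x hx
    | inv_mem x hx => intro g hg; simpa using hconj' x hx g hg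
    | one => intro g hg; simpa
    | mul x y _ _ ihx ihy =>
      intro g hg
      rw [show x * y * g * (x * y)⁻¹ = x * (y * g * y⁻¹) * x⁻¹ by group]
      exact ihx _ (ihy g hg)
  have hN : (H.elemGroup.subgroupOf H.orth).Normal :=
    ⟨fun g hg x => by
      rw [Subgroup.mem_subgroupOf] at hg ⊢
      exact hnorm _ (hgen x.2) _ hg⟩
  have hdd : ∀ x ∈ H.diagSet, ∀ y ∈ H.diagSet, x * y * x⁻¹ * y⁻¹ = 1 := by
    intro x hx y hy
    obtain ⟨c, hc, -⟩ := diag_coeff hx
    obtain ⟨c', hc', -⟩ := diag_coeff hy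
    rw [mul_inv_eq_one, mul_inv_eq_iff_eq_mul]
    exact glExt fun v => by
      rw [mulVec_glMul, mulVec_glMul, hc', hc, hc, hc']
      funext i; ring
  have hdσ : ∀ x ∈ H.diagSet, x * σ * x⁻¹ * σ⁻¹ ∈ H.elemGroup := by
    intro x hx
    obtain ⟨c, hc, hcc, hc0, -⟩ := diag_coeff hx
    obtain ⟨e, he, hev⟩ := hT (c k₀) (hc0 _)
    have : x * σ * x⁻¹ * σ⁻¹ = e := by
      rw [mul_inv_eq_iff_eq_mul, mul_inv_eq_iff_eq_mul]
      refine glExt fun v => ?_
      rw [mulVec_glMul, mulVec_glMul, mulVec_glMul, hev, hσ, permGL_mulVec, permGL_mulVec, hc, hc]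
      have hkb : c (H.bar k₀) = (c k₀)⁻¹ := eq_inv_of_mul_eq_one_right (hcc k₀ hS.ne)
      have h0 := hc0 k₀
      funext i
      simp only [Function.comp_apply, hπd]
      by_cases e1 : i = k₀
      · subst e1; rw [if_pos rfl, Equiv.swap_apply_left, hkb]; field_simp
      by_cases e2 : i = H.bar k₀
      · subst e2; rw [if_neg e1, if_pos rfl, Equiv.swap_apply_right, hkb]; field_simp
      rw [if_neg e1, if_neg e2, Equiv.swap_apply_of_ne_of_ne e1 e2, one_mul]
    rwa [this]
  haveI := hN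
  refine commutator_le_of_gens _ ((↑) ⁻¹' S) ?_ ?_
  · rw [eq_top_iff]
    intro x _
    have hx : (x : GL ι F) ∈ Subgroup.closure S := hgen x.2
    have hmap : Subgroup.map H.orth.subtype
        (Subgroup.closure (((↑) : ↥H.orth → GL ι F) ⁻¹' S)) = Subgroup.closure S := by
      rw [MonoidHom.map_closure]
      congr 1
      exact Set.image_preimage_eq_of_subset (by simpa [Subgroup.coe_subtype] using hSO)
    rw [← hmap] at hx
    obtain ⟨y, hy, hyx⟩ := hx
    rwa [← Subtype.ext hyx]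
  · rintro ⟨x, hxO⟩ hx ⟨y, hyO⟩ hy
    rw [Subgroup.mem_subgroupOf]
    show x * y * x⁻¹ * y⁻¹ ∈ H.elemGroup
    simp only [Set.mem_preimage] at hx hy
    rcases hx with (hx | hx) | hx
    · rw [show x * y * x⁻¹ * y⁻¹ = x * (y * x⁻¹ * y⁻¹) by group]
      exact mul_mem hx (hconj y hy _ (inv_mem hx))
    · rcases hy with (hy | hy) | hy
      · exact mul_mem (diag_conj_mem hx hy) (inv_mem hy)
      · rw [hdd x hx y hy]; exact one_mem _
      · rw [Set.mem_singleton_iff.1 hy]; exact hdσ x hx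
    · rw [Set.mem_singleton_iff] at hx
      rcases hy with (hy | hy) | hy
      · exact mul_mem (hconj x (Or.inr hx) y hy) (inv_mem hy)
      · rw [show x * y * x⁻¹ * y⁻¹ = (y * x * y⁻¹ * x⁻¹)⁻¹ by group, hx]
        exact inv_mem (hdσ y hy)
      · rw [hx, Set.mem_singleton_iff.1 hy]; simp

end HypForm

end CfsgLib.ChevClassical
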