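import Cfsg.Agent.Lib.ChevClassical.Reduce

/-!
Symbolic evaluation of products of root elements whose parameters are monomials in two variables,
so that identities between such products are checked by computation on basis vectors.
-/

set_option autoImplicit false
set_option linter.unusedSectionVars false

namespace CfsgLib.ChevClassical

open Matrix

variable {ι : Type} [Fintype ι] [DecidableEq ι]

/-- The label of a root element of an orthogonal group, with a sign. -/
inductive RootOp (ι : Type) where
  | long (a b : ι) (s : ℤ)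
  | short (z a : ι) (s : ℤ)
  deriving DecidableEq

/-- The conditions under which a label gives an isometry. -/
def RootOp.ok (bar : ι → ι) : RootOp ι → Bool
  | .long a b _ => decide (bar a ≠ a ∧ bar b ≠ b ∧ a ≠ b ∧ a ≠ bar b)
  | .short z a _ => decide (bar z = z ∧ bar a ≠ a)

/-- The entries of a root element: row, column, coefficient, degree in the parameter. -/
def RootOp.entries (bar : ι → ι) : RootOp ι → List (ι × ι × ℤ × ℕ)
  | .long a b s => [(a, b, s, 1), (bar b, bar a, -s, 1)]
  | .short z a s => [(z, bar a, s, 1), (a, z, -2 * s, 1), (a, bar a, -(s * s), 2)]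

/-- The monomial `c t^i u^j`. -/
abbrev Mon := ℤ × ℤ × ℤ

/-- A vector as a list of terms. -/
abbrev SVec (ι : Type) := List (ι × Mon)

/-- The effect of one entry of a root element on a term. -/
def entryTerms (p : Mon) (tm : ι × Mon) (e : ι × ι × ℤ × ℕ) : SVec ι :=
  if e.2.1 = tm.1 then
    [(e.1, (e.2.2.1 * p.1 ^ e.2.2.2 * tm.2.1, (e.2.2.2 : ℤ) * p.2.1 + tm.2.2.1,
      (e.2.2.2 : ℤ) * p.2.2 + tm.2.2.2))]
  else []

/-- Insertion of a term, combining it with a term of the same kind. -/
def insTerm (x : ι × Mon) : SVec ι → SVec ι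
  | [] => [x]
  | y :: L =>
    if y.1 = x.1 ∧ y.2.2 = x.2.2 then (x.1, (x.2.1 + y.2.1, x.2.2)) :: L else y :: insTerm x L

/-- Terms combined, zero terms dropped. -/
def normVec (L : SVec ι) : SVec ι :=
  (L.foldr insTerm []).filter fun x => decide (x.2.1 ≠ 0)

/-- A root element applied to a vector. -/
def applyOp (ents : List (ι × ι × ℤ × ℕ)) (p : Mon) (L : SVec ι) : SVec ι :=
  normVec (L ++ L.flatMap fun tm => ents.flatMap (entryTerms p tm))

/-- A product of root elements applied to a vector. -/
def applyWord (bar : ι → ι) (op : ℕ → RootOp ι) (w : List (ℕ × Mon)) (L : SVec ι) : SVec ι :=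
  w.foldr (fun x acc => applyOp ((op x.1).entries bar) x.2 acc) L

/-- The difference of two vectors vanishes. -/
def sameVec (L L' : SVec ι) : Bool :=
  (normVec (L ++ L'.map fun x => (x.1, (-x.2.1, x.2.2)))).isEmpty

/-- The two products agree on every basis vector. -/
def sameWord (basis : List ι) (bar : ι → ι) (op : ℕ → RootOp ι) (w w' : List (ℕ × Mon)) : Bool :=
  basis.all fun a => sameVec (applyWord bar op w [(a, (1, 0, 0))]) (applyWord bar op w' [(a, (1, 0, 0))])

variable {F : Type*} [Field F]

/-- The value of a monomial. -/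
def monVal (t u : F) (p : Mon) : F := (p.1 : F) * t ^ p.2.1 * u ^ p.2.2

/-- The value of a vector. -/
def vecVal (t u : F) (L : SVec ι) : ι → F :=
  (L.map fun x => Pi.single x.1 (monVal t u x.2)).sum

theorem vecVal_nil (t u : F) : vecVal t u ([] : SVec ι) = 0 := rfl

theorem vecVal_cons (t u : F) (x : ι × Mon) (L : SVec ι) :
    vecVal t u (x :: L) = Pi.single x.1 (monVal t u x.2) + vecVal t u L := by
  simp [vecVal]

theorem vecVal_append (t u : F) (L L' : SVec ι) :
    vecVal t u (L ++ L') = vecVal t u L + vecVal t u L' := by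
  simp [vecVal]

theorem vecVal_ins (t u : F) (x : ι × Mon) (L : SVec ι) :
    vecVal t u (insTerm x L) = Pi.single x.1 (monVal t u x.2) + vecVal t u L := by
  induction L with
  | nil => simp [insTerm, vecVal]
  | cons y L ih =>
    rw [insTerm]
    split_ifs with h
    · rw [vecVal_cons, vecVal_cons, ← add_assoc, h.1, ← Pi.single_add]
      congr 2
      simp only [monVal, h.2, Int.cast_add]
      ring
    · rw [vecVal_cons, ih, vecVal_cons]
      abel

theorem vecVal_norm (t u : F) (L : SVec ι) : vecVal t u (normVec L) = vecVal t u L := by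
  have h1 : ∀ M : SVec ι, vecVal t u (M.filter fun x => decide (x.2.1 ≠ 0)) = vecVal t u M := by
    intro M
    induction M with
    | nil => rfl
    | cons y M ih =>
      by_cases h : y.2.1 = 0
      · rw [List.filter_cons_of_neg (by simp [h]), ih, vecVal_cons]
        simp [monVal, h]
      · rw [List.filter_cons_of_pos (by simp [h]), vecVal_cons, ih, vecVal_cons]
  rw [normVec, h1]
  induction L with
  | nil => rfl
  | cons y L ih => rw [List.foldr_cons, vecVal_ins, ih, vecVal_cons]

theorem vecVal_neg (t u : F) (L : SVec ι) :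
    vecVal t u (L.map fun x => (x.1, (-x.2.1, x.2.2))) = -vecVal t u L := by
  induction L with
  | nil => simp [vecVal]
  | cons y L ih =>
    rw [List.map_cons, vecVal_cons, ih, vecVal_cons, neg_add, ← Pi.single_neg]
    simp [monVal]

theorem sameVec_sound {L L' : SVec ι} (h : sameVec L L' = true) (t u : F) :
    vecVal t u L = vecVal t u L' := by
  have h' := vecVal_norm t u (L ++ L'.map fun x => (x.1, (-x.2.1, x.2.2)))
  rw [List.isEmpty_iff.1 h, vecVal_nil, vecVal_append, vecVal_neg, eq_comm, ← sub_eq_add_neg,
    sub_eq_zero] at h'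
  exact h'

/-- The linear map of an entry. -/
def entryMap (s : F) (e : ι × ι × ℤ × ℕ) : (ι → F) →ₗ[F] (ι → F) :=
  (LinearMap.single F (fun _ => F) e.1).comp
    (((e.2.2.1 : F) * s ^ e.2.2.2) • LinearMap.proj e.2.1)

/-- The linear map of a list of entries. -/
def entsMap (s : F) (ents : List (ι × ι × ℤ × ℕ)) : (ι → F) →ₗ[F] (ι → F) :=
  LinearMap.id + (ents.map (entryMap s)).sum

theorem entsMap_apply (s : F) (ents : List (ι × ι × ℤ × ℕ)) (v : ι → F) :
    entsMap s ents v =
      v + (ents.map fun e => Pi.single e.1 ((e.2.2.1 : F) * s ^ e.2.2.2 * v e.2.1)).sum := by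
  rw [entsMap, LinearMap.add_apply, LinearMap.id_apply]
  congr 1
  induction ents with
  | nil => simp
  | cons e l ih =>
    rw [List.map_cons, List.sum_cons, LinearMap.add_apply, ih, List.map_cons, List.sum_cons]
    rfl

theorem vecVal_entryTerms {t u : F} (ht : t ≠ 0) (hu : u ≠ 0) (p : Mon) (tm : ι × Mon)
    (e : ι × ι × ℤ × ℕ) :
    vecVal t u (entryTerms p tm e) =
      entryMap (monVal t u p) e (Pi.single tm.1 (monVal t u tm.2)) := by
  have hsimp : entryMap (monVal t u p) e (Pi.single tm.1 (monVal t u tm.2)) =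
      Pi.single e.1 ((e.2.2.1 : F) * monVal t u p ^ e.2.2.2 *
        (Pi.single tm.1 (monVal t u tm.2) : ι → F) e.2.1) := rfl
  rw [hsimp, entryTerms]
  split_ifs with h
  · rw [vecVal_cons, vecVal_nil, add_zero, h, Pi.single_eq_same]
    congr 1
    simp only [monVal, Int.cast_mul, Int.cast_pow]
    rw [zpow_add₀ ht, zpow_add₀ hu, mul_comm (e.2.2.2 : ℤ) p.2.1, mul_comm (e.2.2.2 : ℤ) p.2.2,
      _root_.zpow_mul, _root_.zpow_mul, zpow_natCast, zpow_natCast, mul_pow, mul_pow]
    ring
  · rw [vecVal_nil, Pi.single_eq_of_ne h, mul_zero, Pi.single_zero]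

theorem vecVal_applyOp {t u : F} (ht : t ≠ 0) (hu : u ≠ 0) (ents : List (ι × ι × ℤ × ℕ)) (p : Mon)
    (L : SVec ι) :
    vecVal t u (applyOp ents p L) = entsMap (monVal t u p) ents (vecVal t u L) := by
  rw [applyOp, vecVal_norm, vecVal_append, entsMap, LinearMap.add_apply, LinearMap.id_apply]
  congr 1
  induction L with
  | nil => simp [vecVal_nil]
  | cons x L ih =>
    rw [List.flatMap_cons, vecVal_append, ih, vecVal_cons, map_add]
    congr 1
    clear ih
    induction ents with
    | nil => simp [vecVal_nil]
    | cons e l ih =>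
      rw [List.flatMap_cons, vecVal_append, ih, vecVal_entryTerms ht hu, List.map_cons, List.sum_cons,
        LinearMap.add_apply]

instance (H : HypForm ι F) (a b : ι) : Decidable (H.LOK a b) :=
  inferInstanceAs (Decidable (_ ∧ _))

instance (H : HypForm ι F) (z a : ι) : Decidable (H.SOK z a) :=
  inferInstanceAs (Decidable (_ ∧ _))

namespace RootOp

variable (H : HypForm ι F)

/-- The element of a label. -/
noncomputable def elt (o : RootOp ι) (t : F) : GL ι F :=
  match o with
  | .long a b s => if h : H.LOK a b then HypForm.opL h ((s : F) * t) else 1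
  | .short z a s => if h : H.SOK z a then HypForm.opS h ((s : F) * t) else 1

variable {H}

theorem elt_add (o : RootOp ι) (t u : F) : o.elt H t * o.elt H u = o.elt H (t + u) := by
  cases o with
  | long a b s =>
    simp only [elt]
    split_ifs with h
    · rw [HypForm.opL_add, mul_add]
    · exact one_mul 1
  | short z a s =>
    simp only [elt]
    split_ifs with h
    · rw [HypForm.opS_add, mul_add]
    · exact one_mul 1

theorem elt_mem (o : RootOp ι) (t : F) : o.elt H t ∈ H.elemGroup := by
  cases o with
  | long a b s =>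
    simp only [elt]
    split_ifs with h
    exacts [HypForm.opL_mem h _, one_mem _]
  | short z a s =>
    simp only [elt]
    split_ifs with h
    exacts [HypForm.opS_mem h _, one_mem _]

theorem elt_zero (o : RootOp ι) : o.elt H 0 = 1 := by
  have h := elt_add (H := H) o 0 0
  rwa [add_zero, mul_eq_left] at h

theorem elt_inv (o : RootOp ι) (t : F) : (o.elt H t)⁻¹ = o.elt H (-t) := by
  rw [inv_eq_iff_mul_eq_one, elt_add, add_neg_cancel, elt_zero]

theorem elt_mulVec (o : RootOp ι) (h : o.ok H.bar = true) (t : F) (v : ι → F) :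
    (o.elt H t : Matrix ι ι F) *ᵥ v = entsMap t (o.entries H.bar) v := by
  cases o with
  | long a b s =>
    have hok : H.LOK a b := by simpa [ok, HypForm.LOK] using h
    rw [elt, dif_pos hok, HypForm.opL_mulVec, HypForm.lMap_apply, entsMap_apply]
    simp only [entries, List.map_cons, List.map_nil, List.sum_cons, List.sum_nil, add_zero, pow_one,
      Int.cast_neg, neg_mul]
    rw [add_assoc]
  | short z a s =>
    have hok : H.SOK z a := by simpa [ok, HypForm.SOK] using h
    rw [elt, dif_pos hok, HypForm.opS_mulVec, HypForm.sMap_apply, entsMap_apply]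
    simp only [entries, List.map_cons, List.map_nil, List.sum_cons, List.sum_nil, add_zero, pow_one,
      Int.cast_neg, Int.cast_mul, Int.cast_ofNat, neg_mul]
    rw [add_assoc, ← Pi.single_add]
    congr 3
    ring

end RootOp

/-- The product of a word of labels. -/
noncomputable def wordEl (H : HypForm ι F) (op : ℕ → RootOp ι) (t u : F) (w : List (ℕ × Mon)) :
    GL ι F :=
  (w.map fun x => (op x.1).elt H (monVal t u x.2)).prod

theorem wordEl_mem (H : HypForm ι F) (op : ℕ → RootOp ι) (t u : F) (w : List (ℕ × Mon)) :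
    wordEl H op t u w ∈ H.elemGroup := by
  refine list_prod_mem fun x hx => ?_
  obtain ⟨y, -, rfl⟩ := List.mem_map.1 hx
  exact RootOp.elt_mem _ _

theorem wordEl_mulVec (H : HypForm ι F) (op : ℕ → RootOp ι) {t u : F} (ht : t ≠ 0) (hu : u ≠ 0)
    (w : List (ℕ × Mon)) (hw : ∀ x ∈ w, (op x.1).ok H.bar = true) (L : SVec ι) :
    (wordEl H op t u w : Matrix ι ι F) *ᵥ vecVal t u L = vecVal t u (applyWord H.bar op w L) := by
  induction w with
  | nil => simp [wordEl, applyWord]
  | cons x w ih =>
    have h1 : wordEl H op t u (x :: w) = (op x.1).elt H (monVal t u x.2) * wordEl H op t u w := by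
      simp [wordEl]
    rw [h1, mulVec_glMul, ih (fun y hy => hw y (List.mem_cons_of_mem _ hy)),
      RootOp.elt_mulVec _ (hw x List.mem_cons_self)]
    exact (vecVal_applyOp ht hu _ _ _).symm

theorem wordEl_eq (H : HypForm ι F) (op : ℕ → RootOp ι) {basis : List ι} (hb : ∀ a, a ∈ basis)
    {t u : F} (ht : t ≠ 0) (hu : u ≠ 0) {w w' : List (ℕ × Mon)}
    (hw : ∀ x ∈ w, (op x.1).ok H.bar = true) (hw' : ∀ x ∈ w', (op x.1).ok H.bar = true)
    (h : sameWord basis H.bar op w w' = true) : wordEl H op t u w = wordEl H op t u w' := by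
  refine Units.ext (Matrix.ext fun i a => ?_)
  have h1 := sameVec_sound (List.all_eq_true.1 h a (hb a)) t u
  rw [← wordEl_mulVec H op ht hu w hw, ← wordEl_mulVec H op ht hu w' hw'] at h1
  have h2 : vecVal t u ([(a, (1, 0, 0))] : SVec ι) = Pi.single a 1 := by
    simp [vecVal, monVal]
  rw [h2, Matrix.mulVec_single_one, Matrix.mulVec_single_one] at h1
  exact congrFun h1 i

end CfsgLib.ChevClassical
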